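import Cfsg.Agent.Lib.Char.ThompsonWielandt
import Mathlib.GroupTheory.SpecificGroups.Alternating.Simple
import Mathlib.GroupTheory.SpecificGroups.Alternating.Centralizer

/-!
# Almost alternating groups, sections, local actions
-/

set_option autoImplicit false
set_option linter.unusedSectionVars false

open Subgroup

namespace CfsgLib.Char.UnfaithfulSub

universe u v

section Alt

variable {α : Type*} [DecidableEq α] [Fintype α]

theorem alt_centralizer (h5 : 5 ≤ Nat.card α) {σ : Equiv.Perm α}
    (hσ : ∀ τ ∈ alternatingGroup α, σ * τ = τ * σ) : σ = 1 := by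
  by_contra hne
  have hσm : σ ∈ centralizer (alternatingGroup α : Set (Equiv.Perm α)) :=
    mem_centralizer_iff.2 fun τ hτ => (hσ τ hτ).symm
  have hnt : Nontrivial ↥(centralizer (alternatingGroup α : Set (Equiv.Perm α))) :=
    ⟨⟨⟨σ, hσm⟩, 1, fun e => hne (congrArg Subtype.val e)⟩⟩
  have hle := Equiv.Perm.alternatingGroup_le_of_normal h5 (N := centralizer (alternatingGroup α : Set (Equiv.Perm α))) hnt
  haveI : Nontrivial (alternatingGroup α) := alternatingGroup.nontrivial_of_three_le_card (by omega)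
  obtain ⟨t, ht⟩ := exists_ne (1 : alternatingGroup α)
  refine ht ((mem_bot).1 (alternatingGroup.center_eq_bot (α := α) (by omega) ▸ mem_center_iff.2 fun s => ?_))
  exact Subtype.ext (mem_centralizer_iff.1 (hle t.2) s.1 s.2)

/-- A subgroup normalized by an almost alternating group is trivial or almost alternating. -/
theorem normal_dichotomy (h5 : 5 ≤ Nat.card α) {R N : Subgroup (Equiv.Perm α)}
    (hR : alternatingGroup α ≤ R) (hNR : N ≤ R) (hn : R ≤ normalizer (N : Set (Equiv.Perm α))) :
    N = ⊥ ∨ alternatingGroup α ≤ N := by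
  haveI := alternatingGroup.isSimpleGroup h5
  have hnA : ∀ a ∈ alternatingGroup α, ∀ x ∈ N, a * x * a⁻¹ ∈ N := fun a ha x hx =>
    (mem_normalizer_iff.1 (hn (hR ha)) x).1 hx
  haveI : (N.subgroupOf (alternatingGroup α)).Normal := ⟨fun x hx a => mem_subgroupOf.2 (hnA a.1 a.2 x.1 hx)⟩
  rcases Subgroup.Normal.eq_bot_or_eq_top (H := N.subgroupOf (alternatingGroup α)) inferInstance with h | h
  · refine Or.inl ((Subgroup.eq_bot_iff_forall _).2 fun x hx => alt_centralizer h5 fun a ha => ?_)
    have hA : x * a * x⁻¹ * a⁻¹ ∈ alternatingGroup α :=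
      mul_mem ((inferInstance : (alternatingGroup α).Normal).conj_mem a ha x) (inv_mem ha)
    have hN : x * a * x⁻¹ * a⁻¹ ∈ N := by
      rw [show x * a * x⁻¹ * a⁻¹ = x * (a * x⁻¹ * a⁻¹) by group]
      exact mul_mem hx (hnA a ha _ (inv_mem hx))
    have : (⟨_, hA⟩ : alternatingGroup α) ∈ N.subgroupOf (alternatingGroup α) := mem_subgroupOf.2 hN
    rw [h, mem_bot] at this
    have h1 := congrArg Subtype.val this
    simp only [OneMemClass.coe_one] at h1
    calc x * a = (x * a * x⁻¹ * a⁻¹) * (a * x) := by group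
      _ = a * x := by rw [h1, one_mul]
  · exact Or.inr (subgroupOf_eq_top.1 h)

theorem two_mul_card_ge (h5 : 5 ≤ Nat.card α) {N : Subgroup (Equiv.Perm α)} (h : alternatingGroup α ≤ N) :
    (Nat.card α).factorial ≤ 2 * Nat.card N := by
  haveI : Nontrivial α := Finite.one_lt_card_iff_nontrivial.1 (by omega)
  rw [← Nat.card_perm, ← two_mul_nat_card_alternatingGroup (α := α)]
  exact Nat.mul_le_mul_left 2 (Nat.le_of_dvd Nat.card_pos (card_dvd_of_le h))

theorem eq_alt_or_top {N : Subgroup (Equiv.Perm α)} [Nontrivial α] (h : alternatingGroup α ≤ N) :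
    N = alternatingGroup α ∨ N = ⊤ := by
  have h1 := Subgroup.relIndex_mul_index h
  rw [alternatingGroup.index_eq_two] at h1
  rcases (Nat.dvd_prime Nat.prime_two).1 ⟨_, h1.symm⟩ with h2 | h2
  · rw [h2, one_mul] at h1
    exact Or.inl (le_antisymm (relIndex_eq_one.1 h2) h)
  · rw [h2] at h1
    exact Or.inr (index_eq_one.1 (by omega))

end Alt

/-! ### Sections isomorphic to an alternating group -/

/-- Some subgroup maps onto the alternating group. -/
def Sec (d : ℕ) (X : Type u) [Group X] : Prop :=
  ∃ (U : Subgroup X) (f : ↥U →* ↥(alternatingGroup (Fin d))), Function.Surjective f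

section Sec

variable {d : ℕ} {X : Type u} [Group X] {Y : Type v} [Group Y]

theorem sec_of_surjective (f : X →* ↥(alternatingGroup (Fin d))) (hf : Function.Surjective f) : Sec d X :=
  ⟨⊤, f.comp (⊤ : Subgroup X).subtype, fun a => by
    obtain ⟨x, hx⟩ := hf a
    exact ⟨⟨x, trivial⟩, hx⟩⟩

theorem Sec.map (h : Sec d X) (f : X →* Y) (hf : Function.Injective f) : Sec d Y := by
  obtain ⟨U, g, hg⟩ := h
  exact ⟨U.map f, g.comp (U.equivMapOfInjective f hf).symm.toMonoidHom,
    hg.comp (MulEquiv.surjective _)⟩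

theorem Sec.of_hom (h5 : 5 ≤ d) (h : Sec d X) (f : X →* Y) : Sec d f.ker ∨ Sec d f.range := by
  obtain ⟨U, g, hg⟩ := h
  haveI := alternatingGroup.isSimpleGroup (α := Fin d) (by simpa using h5)
  haveI : (f.ker.subgroupOf U).Normal := Subgroup.Normal.subgroupOf inferInstance U
  haveI : ((f.ker.subgroupOf U).map g).Normal := Subgroup.Normal.map inferInstance g hg
  rcases Subgroup.Normal.eq_bot_or_eq_top (H := (f.ker.subgroupOf U).map g) inferInstance with h0 | h0
  · right
    have hle : (f.comp U.subtype).rangeRestrict.ker ≤ g.ker := by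
      intro x hx
      rw [MonoidHom.ker_rangeRestrict, MonoidHom.mem_ker] at hx
      have : g x ∈ (f.ker.subgroupOf U).map g := mem_map_of_mem g (mem_subgroupOf.2 (MonoidHom.mem_ker.2 hx))
      rw [h0, mem_bot] at this
      exact this
    let e := ((f.comp U.subtype).rangeRestrict.liftOfSurjective (f.comp U.subtype).rangeRestrict_surjective ⟨g, hle⟩)
    have he : Function.Surjective e := fun a => by
      obtain ⟨x, rfl⟩ := hg a
      exact ⟨(f.comp U.subtype).rangeRestrict x, MonoidHom.liftOfRightInverse_comp_apply _ _ _ _ x⟩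
    refine (sec_of_surjective e he).map (Subgroup.inclusion ?_) (Subgroup.inclusion_injective _)
    rintro _ ⟨x, rfl⟩
    exact ⟨_, rfl⟩
  · left
    let i : ↥(f.ker.subgroupOf U) →* ↥f.ker :=
      (U.subtype.comp (f.ker.subgroupOf U).subtype).codRestrict _ fun x => mem_subgroupOf.1 x.2
    have hi : Function.Injective i := fun a b e => Subtype.ext (Subtype.ext (congrArg (fun z : f.ker => (z : X)) e))
    refine (sec_of_surjective (g.comp (f.ker.subgroupOf U).subtype) fun a => ?_).map i hi
    obtain ⟨x, hx, rfl⟩ := (h0 ▸ mem_top a : a ∈ (f.ker.subgroupOf U).map g)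
    exact ⟨⟨x, hx⟩, rfl⟩

theorem Sec.card_ge (h5 : 5 ≤ d) [Finite X] (h : Sec d X) : d.factorial ≤ 2 * Nat.card X := by
  obtain ⟨U, g, hg⟩ := h
  haveI : Nontrivial (Fin d) := Fin.nontrivial_iff_two_le.2 (by omega)
  have h1 := two_mul_nat_card_alternatingGroup (α := Fin d)
  rw [Nat.card_perm, Nat.card_fin] at h1
  have h2 := Nat.card_le_card_of_surjective g hg
  have h3 : Nat.card U ≤ Nat.card X := Nat.card_le_card_of_injective _ U.subtype_injective
  omega

theorem not_sec_perm {β : Type*} [Finite β] (h5 : 5 ≤ d) (hβ : Nat.card β + 1 ≤ d) :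
    ¬ Sec d (Equiv.Perm β) := fun h => by
  have h1 := h.card_ge h5
  rw [Nat.card_perm] at h1
  have h2 : (Nat.card β).factorial * 5 ≤ d.factorial := by
    have h3 : (d - 1).factorial * d = d.factorial := by
      rw [mul_comm, ← Nat.mul_factorial_pred (show d ≠ 0 by omega)]
    rw [← h3]
    exact Nat.mul_le_mul (Nat.factorial_le (by omega)) h5
  have := Nat.factorial_pos (Nat.card β)
  omega

theorem not_sec_pi (h5 : 5 ≤ d) {P : Type v} [Group P] (hP : ¬ Sec d P) :
    ∀ n : ℕ, ¬ Sec d (Fin n → P) := by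
  intro n
  induction n with
  | zero =>
    intro h
    have h1 := h.card_ge h5
    rw [Nat.card_unique] at h1
    have : d ≤ d.factorial := Nat.self_le_factorial d
    omega
  | succ n ih =>
    intro h
    let f : (Fin (n + 1) → P) →* P := Pi.evalMonoidHom (fun _ => P) 0
    rcases h.of_hom h5 f with h1 | h1
    · refine ih (h1.map (MonoidHom.mk' (fun x i => x.1 i.succ) fun x y => rfl) fun x y e => Subtype.ext (funext fun i => ?_))
      induction i using Fin.cases with
      | zero => exact (MonoidHom.mem_ker.1 x.2 : x.1 0 = 1).trans (MonoidHom.mem_ker.1 y.2 : y.1 0 = 1).symm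
      | succ i => exact congrFun e i
    · exact hP (h1.map f.range.subtype f.range.subtype_injective)

theorem not_sec_of_isSolvable (h5 : 5 ≤ d) [Finite X] [Group.IsSolvable X] : ¬ Sec d X := fun h => by
  obtain ⟨U, g, hg⟩ := h
  haveI : Group.IsSolvable ↥(alternatingGroup (Fin d)) := Group.isSolvable_of_surjective hg
  haveI := alternatingGroup.isSimpleGroup (α := Fin d) (by simpa using h5)
  have hcomm : ∀ a b : ↥(alternatingGroup (Fin d)), a * b = b * a := IsSimpleGroup.comm_iff_isSolvable.2 inferInstance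
  have h3 : IsMulCommutative ↥(alternatingGroup (Fin d)) := ⟨⟨hcomm⟩⟩
  have := alternatingGroup.isMulCommutative_iff_card_le_three.1 h3
  simp at this
  omega

end Sec

end CfsgLib.Char.UnfaithfulSub
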