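import Cfsg.Agent.Lib.Char.ThompsonWielandt

/-!
# Systems of simple factors in two neighbouring stabilizers

Two conjugate subgroups `H`, `K` cannot carry, inside the kernel `E` of the action of `H` on
`d` points, a system of `d` simple factors permuted by `H` all but one of which lie in the kernel
`F` of the action of `K`.
-/

set_option autoImplicit false

open Subgroup CfsgLib.Coprime CfsgLib.Invol

namespace CfsgLib.Char.UnfaithfulSub

variable {G : Type*} [Group G]

/-- Subgroups normalizing each other and meeting trivially commute. -/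
theorem commute_of_mutual {A B : Subgroup G} (hAB : A ≤ normalizer (B : Set G))
    (hBA : B ≤ normalizer (A : Set G)) (h : A ⊓ B = ⊥) {a b : G} (ha : a ∈ A) (hb : b ∈ B) :
    a * b = b * a := by
  have h1 : a * b * a⁻¹ * b⁻¹ ∈ A ⊓ B := by
    refine Subgroup.mem_inf.2 ⟨?_, mul_mem ((mem_normalizer_iff.1 (hAB ha) b).1 hb) (inv_mem hb)⟩
    rw [show a * b * a⁻¹ * b⁻¹ = a * (b * a⁻¹ * b⁻¹) by group]
    exact mul_mem ha ((mem_normalizer_iff.1 (hBA hb) _).1 (inv_mem ha))
  rw [h, mem_bot] at h1
  calc a * b = (a * b * a⁻¹ * b⁻¹) * (b * a) := by group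
    _ = b * a := by rw [h1, one_mul]

theorem conj_mem_of_le_normalizer {A B : Subgroup G} (h : A ≤ normalizer (B : Set G)) {a b : G}
    (ha : a ∈ A) (hb : b ∈ B) : a * b * a⁻¹ ∈ B :=
  (mem_normalizer_iff.1 (h ha) b).1 hb

variable {H K E F : Subgroup G} {d : ℕ}

/-- A system of simple factors of `E` permuted by `H`. -/
structure FactorSys (H K E F : Subgroup G) (d : ℕ) where
  π : ↥H →* Equiv.Perm (Fin d)
  x : Fin d
  M : Fin d → Subgroup G
  stab : ∀ h : H, π h x = x ↔ (h : G) ∈ K
  trans : ∀ y z, ∃ h : H, π h y = z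
  trans_ne : ∀ y z, y ≠ x → z ≠ x → ∃ h : H, π h x = x ∧ π h y = z
  hE : E ≤ H ⊓ K
  hF : F ≤ H ⊓ K
  nE : H ≤ normalizer (E : Set G)
  nF : K ≤ normalizer (F : Set G)
  ker : ∀ h : H, (h : G) ∈ E ↔ π h = 1
  le : ∀ y, M y ≤ E
  norm : ∀ y, E ≤ normalizer (M y : Set G)
  conj : ∀ (h : H) (y : Fin d), ∀ m ∈ M y, (h : G) * m * (h : G)⁻¹ ∈ M (π h y)
  disj : ∀ y z, y ≠ z → M y ⊓ M z = ⊥
  simple : ∀ y (N : Subgroup G), N ≤ M y → M y ≤ normalizer (N : Set G) → N = ⊥ ∨ N = M y
  nc : ∀ y, ∃ a ∈ M y, ∃ b ∈ M y, a * b ≠ b * a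
  le_F : ∀ y, y ≠ x → M y ≤ F
  sep : ∀ e ∈ E, (∀ y, ∀ m ∈ M y, e * m = m * e) → e = 1
  sepF : ∀ e ∈ E, e ∈ F → (∀ y, y ≠ x → ∀ m ∈ M y, e * m = m * e) → e = 1

namespace FactorSys

variable (S : FactorSys H K E F d)

theorem leH (y : Fin d) : S.M y ≤ H := (S.le y).trans (S.hE.trans inf_le_left)

theorem leK (y : Fin d) : S.M y ≤ K := (S.le y).trans (S.hE.trans inf_le_right)

theorem comm {y z : Fin d} (hne : y ≠ z) {a b : G} (ha : a ∈ S.M y) (hb : b ∈ S.M z) :
    a * b = b * a :=
  commute_of_mutual ((S.le y).trans (S.norm z)) ((S.le z).trans (S.norm y)) (S.disj y z hne) ha hb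

theorem ne_bot (y : Fin d) : S.M y ≠ ⊥ := fun h => by
  obtain ⟨a, ha, b, hb, hab⟩ := S.nc y
  rw [h, mem_bot] at ha hb
  exact hab (by rw [ha, hb])

/-- Every non-trivial normal subgroup of `H` contains all the factors. -/
theorem le_of_normal {N : Subgroup G} (hN : N ≤ H) (hn : H ≤ normalizer (N : Set G))
    (hne : N ≠ ⊥) (y : Fin d) : S.M y ≤ N := by
  by_contra hy
  have hbot : ∀ z, N ⊓ S.M z = ⊥ := by
    intro z
    refine (S.simple z _ inf_le_right
      (inf_le_normalizer ((S.leH z).trans hn) le_normalizer)).resolve_right fun h => hy ?_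
    intro m hm
    obtain ⟨h', hh'⟩ := S.trans y z
    have h1 : (h' : G) * m * (h' : G)⁻¹ ∈ N := by
      have := S.conj h' y m hm
      rw [hh', ← h] at this
      exact this.1
    exact (mem_normalizer_iff.1 (hn h'.2) m).2 h1
  have hNE : N ⊓ E = ⊥ := by
    refine (Subgroup.eq_bot_iff_forall _).2 fun e he => S.sep e he.2 fun z m hm => ?_
    refine commute_of_mutual (A := N ⊓ E) (B := S.M z) (inf_le_right.trans (S.norm z))
      (inf_le_normalizer ((S.leH z).trans hn) ((S.le z).trans le_normalizer)) ?_ he hm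
    rw [eq_bot_iff, ← hbot z]
    exact inf_le_inf_right _ inf_le_left
  refine hne (le_bot_iff.1 fun n hn' => ?_)
  have hcomm : ∀ z, ∀ m ∈ S.M z, n * m = m * n := fun z m hm =>
    commute_of_mutual (A := N) (B := E) (hN.trans S.nE) ((S.hE.trans inf_le_left).trans hn) hNE
      hn' (S.le z hm)
  have hπ : S.π ⟨n, hN hn'⟩ = 1 := Equiv.ext fun z => by
    by_contra hz
    refine S.ne_bot z (le_bot_iff.1 fun m hm => ?_)
    have h1 := S.conj ⟨n, hN hn'⟩ z m hm
    rw [show n * m * n⁻¹ = m by rw [hcomm z m hm, mul_inv_cancel_right]] at h1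
    rw [← S.disj z _ (fun e => hz e.symm)]
    exact ⟨hm, h1⟩
  rw [← hNE]
  exact ⟨hn', (S.ker _).2 hπ⟩

/-- No such system exists. -/
theorem false (S : FactorSys H K E F d) (g : G) (hg : K = H.map (MulAut.conj g).toMonoidHom) (hFne : F ≠ ⊥) : False := by
  have hK : ∀ k : G, k ∈ K ↔ g⁻¹ * k * g ∈ H := by
    intro k
    rw [hg, mem_map_equiv]
    simp [MulAut.conj_symm_apply]
  let M' : Fin d → Subgroup G := fun j => (S.M j).map (MulAut.conj g).toMonoidHom
  have mem' : ∀ j (k : G), k ∈ M' j ↔ g⁻¹ * k * g ∈ S.M j := by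
    intro j k
    rw [mem_map_equiv]
    simp [MulAut.conj_symm_apply]
  have ne_bot' : ∀ j, M' j ≠ ⊥ := fun j h0 => S.ne_bot j
    ((map_eq_bot_iff_of_injective _
      (f := (MulAut.conj g).toMonoidHom) (MulAut.conj g).injective).1 h0)
  have hM'F : ∀ j, M' j ≤ F := by
    let N : Subgroup G := F.comap (MulAut.conj g).toMonoidHom
    have hmem : ∀ m : G, m ∈ N ↔ g * m * g⁻¹ ∈ F := fun m => by simp [N, MulAut.conj_apply]
    have hNH : N ≤ H := fun m hm => by
      have := (hK _).1 (S.hF ((hmem m).1 hm)).2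
      simpa [mul_assoc] using this
    have hNn : H ≤ normalizer (N : Set G) := fun h hh => mem_normalizer_iff.2 fun m => by
      have hk : g * h * g⁻¹ ∈ K := (hK _).2 (by simpa [mul_assoc] using hh)
      have := mem_normalizer_iff.1 (S.nF hk) (g * m * g⁻¹)
      rw [hmem, hmem, this]
      simp [mul_assoc]
    have hNne : N ≠ ⊥ := by
      intro h0
      refine hFne ((Subgroup.eq_bot_iff_forall _).2 fun f hf => ?_)
      have : g⁻¹ * f * g ∈ N := (hmem _).2 (by simpa [mul_assoc] using hf)
      rw [h0, mem_bot] at this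
      calc f = g * (g⁻¹ * f * g) * g⁻¹ := by group
        _ = 1 := by rw [this, mul_one, mul_inv_cancel]
    intro j k hk
    have := (hmem _).1 (S.le_of_normal hNH hNn hNne j ((mem' j k).1 hk))
    simpa [mul_assoc] using this
  let L' : Subgroup G := ⨆ j, M' j
  have hL'F : L' ≤ F := iSup_le hM'F
  have hM'L : ∀ j, M' j ≤ L' := fun j => le_iSup M' j
  have hKL : K ≤ normalizer (L' : Set G) := by
    have key : ∀ k ∈ K, L'.map (MulAut.conj k).toMonoidHom ≤ L' := by
      intro k hk
      rw [map_le_iff_le_comap]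
      refine iSup_le fun j m hm => mem_comap.2 ?_
      refine hM'L (S.π ⟨_, (hK k).1 hk⟩ j) ((mem' _ _).2 ?_)
      have := S.conj ⟨_, (hK k).1 hk⟩ j _ ((mem' j m).1 hm)
      simpa [mul_assoc, MulAut.conj_apply] using this
    intro k hk
    refine mem_normalizer_iff.2 fun m => ⟨fun hm => key k hk (mem_map_of_mem _ hm), fun hm => ?_⟩
    simpa [MulAut.conj_apply, mul_assoc] using key k⁻¹ (inv_mem hk) (mem_map_of_mem _ hm)
  have comm' : ∀ i j, i ≠ j → ∀ a ∈ M' i, ∀ b ∈ M' j, a * b = b * a := by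
    intro i j hij a ha b hb
    have h1 := S.comm hij ((mem' i a).1 ha) ((mem' j b).1 hb)
    calc a * b = g * ((g⁻¹ * a * g) * (g⁻¹ * b * g)) * g⁻¹ := by group
      _ = g * ((g⁻¹ * b * g) * (g⁻¹ * a * g)) * g⁻¹ := by rw [h1]
      _ = b * a := by group
  have hLM : ∀ j, L' ≤ normalizer (M' j : Set G) := by
    intro j
    refine iSup_le fun i a ha => ?_
    by_cases hij : i = j
    · subst hij
      exact le_normalizer ha
    refine mem_normalizer_iff.2 fun b => ⟨fun hb => ?_, fun hb => ?_⟩
    · rwa [comm' i j hij a ha b hb, mul_inv_cancel_right]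
    · have h1 := comm' i j hij a⁻¹ (inv_mem ha) _ hb
      rw [show b = a⁻¹ * (a * b * a⁻¹) * a by group, h1]
      simpa [mul_assoc] using hb
  have simple' : ∀ j (N : Subgroup G), N ≤ M' j → M' j ≤ normalizer (N : Set G) →
      N = ⊥ ∨ N = M' j := by
    intro j N hN hn
    have hback : (N.comap (MulAut.conj g).toMonoidHom).map (MulAut.conj g).toMonoidHom = N :=
      map_comap_eq_self_of_surjective (MulAut.conj g).surjective N
    rcases S.simple j (N.comap (MulAut.conj g).toMonoidHom) (fun m hm => by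
        have := (mem' j _).1 (hN hm)
        simpa [MulAut.conj_apply, mul_assoc] using this) (fun a ha => mem_normalizer_iff.2 fun m => by
        have ha' : g * a * g⁻¹ ∈ M' j := (mem' _ _).2 (by simpa [mul_assoc] using ha)
        have := mem_normalizer_iff.1 (hn ha') (g * m * g⁻¹)
        simpa [MulAut.conj_apply, mul_assoc] using this) with h | h
    · left
      rw [← hback, h, Subgroup.map_bot]
    · right
      rw [← hback, h]
  -- a factor inside `L'` is one of the factors of `L'`
  have match' : ∀ y, S.M y ≤ L' → ∃ j, M' j = S.M y := by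
    intro y hy
    by_contra hno
    simp only [not_exists] at hno
    have hW : L' ≤ normalizer ((L' ⊓ E : Subgroup G) : Set G) :=
      inf_le_normalizer le_normalizer
        ((hL'F.trans (S.hF.trans inf_le_left)).trans S.nE)
    have hc : ∀ j, ∀ a ∈ M' j, ∀ m ∈ S.M y, a * m = m * a := by
      intro j
      have hyW : S.M y ≤ L' ⊓ E := le_inf hy (S.le y)
      rcases simple' j (M' j ⊓ (L' ⊓ E)) inf_le_left
        (inf_le_normalizer le_normalizer ((hM'L j).trans hW)) with h | h
      · intro a ha m hm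
        exact commute_of_mutual ((hM'L j).trans hW) (inf_le_left.trans (hLM j)) h ha (hyW hm)
      · have hjE : M' j ≤ E := by
          rw [← h]
          exact inf_le_right.trans inf_le_right
        intro a ha m hm
        refine commute_of_mutual (hjE.trans (S.norm y)) (hy.trans (hLM j)) ?_ ha hm
        rcases simple' j (M' j ⊓ S.M y) inf_le_left
          (inf_le_normalizer le_normalizer (hjE.trans (S.norm y))) with h' | h'
        · exact h'
        · refine absurd ?_ (hno j)
          have hle : M' j ≤ S.M y := h' ▸ inf_le_right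
          refine (S.simple y (M' j) hle (hy.trans (hLM j))).resolve_left fun h0 => ?_
          exact ne_bot' j h0
    obtain ⟨a, ha, b, hb, hab⟩ := S.nc y
    have hcen : L' ≤ centralizer (S.M y : Set G) := iSup_le fun j c hc' =>
      mem_centralizer_iff.2 fun m hm => (hc j c hc' m hm).symm
    exact hab ((mem_centralizer_iff.1 (hcen (hy ha)) b hb).symm)
  by_cases hLE : L' ≤ E
  · have hall : ∀ y, y ≠ S.x → S.M y ≤ L' := by
      intro y hy
      by_contra hno
      have hbot : ∀ z, z ≠ S.x → L' ⊓ S.M z = ⊥ := by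
        intro z hz
        refine (S.simple z _ inf_le_right
          (inf_le_normalizer ((S.leK z).trans hKL) le_normalizer)).resolve_right fun h => hno ?_
        intro m hm
        obtain ⟨h', hx, hh'⟩ := S.trans_ne y z hy hz
        have h1 : (h' : G) * m * (h' : G)⁻¹ ∈ L' := by
          have := S.conj h' y m hm
          rw [hh', ← h] at this
          exact this.1
        exact (mem_normalizer_iff.1 (hKL ((S.stab h').1 hx)) m).2 h1
      refine ne_bot' S.x ((Subgroup.eq_bot_iff_forall _).2 fun e he => ?_)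
      exact S.sepF e (hLE (hM'L _ he)) (hM'F _ he) fun z hz m hm =>
        commute_of_mutual (hLE.trans (S.norm z)) ((S.leK z).trans hKL) (hbot z hz) (hM'L _ he) hm
    have hsurj : ∀ j, ∃ y, y ≠ S.x ∧ S.M y = M' j := by
      intro j
      by_contra hno
      simp only [not_exists, not_and] at hno
      refine ne_bot' j ((Subgroup.eq_bot_iff_forall _).2 fun e he => ?_)
      refine S.sepF e (hLE (hM'L j he)) (hM'F j he) fun z hz m hm => ?_
      refine commute_of_mutual (((hM'L j).trans hLE).trans (S.norm z))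
        ((hall z hz).trans (hLM j)) ?_ he hm
      rcases simple' j (M' j ⊓ S.M z) inf_le_left
        (inf_le_normalizer le_normalizer (((hM'L j).trans hLE).trans (S.norm z))) with h' | h'
      · exact h'
      · refine absurd ?_ (hno z hz)
        have hle : M' j ≤ S.M z := h' ▸ inf_le_right
        exact ((S.simple z (M' j) hle ((hall z hz).trans (hLM j))).resolve_left fun h0 =>
          ne_bot' j h0).symm
    choose y hy1 hy2 using hsurj
    have hinj : Function.Injective y := by
      intro i j e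
      by_contra hij
      have h1 : M' i = M' j := by rw [← hy2, ← hy2, e]
      obtain ⟨a, ha, b, hb, hab⟩ := S.nc i
      have ha' : g * a * g⁻¹ ∈ M' i := (mem' _ _).2 (by simpa [mul_assoc] using ha)
      have hb' : g * b * g⁻¹ ∈ M' i := (mem' _ _).2 (by simpa [mul_assoc] using hb)
      have := comm' i j hij _ ha' _ (h1 ▸ hb')
      exact hab (mul_left_cancel (a := g) (mul_right_cancel (b := g⁻¹) (by
        simpa [mul_assoc] using this)))
    obtain ⟨j, hj⟩ := (Finite.injective_iff_surjective.1 hinj) S.x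
    exact hy1 j hj
  · obtain ⟨f, hfL, hfE⟩ := Set.not_subset.1 hLE
    have hfH : f ∈ H := (S.hF (hL'F hfL)).1
    obtain ⟨y, hfy⟩ : ∃ y, S.π ⟨f, hfH⟩ y ≠ y := by
      by_contra hno
      simp only [not_exists, not_not] at hno
      exact hfE ((S.ker ⟨f, hfH⟩).2 (Equiv.ext hno))
    set z := S.π ⟨f, hfH⟩ y with hz
    obtain ⟨a, ha, b, hb, hab⟩ := S.nc y
    set a' := f * a⁻¹ * f⁻¹ with ha'
    have ha'z : a' ∈ S.M z := S.conj ⟨f, hfH⟩ y a⁻¹ (inv_mem ha)
    have hu : a * a' ∈ L' := by
      rw [ha', show a * (f * a⁻¹ * f⁻¹) = (a * f * a⁻¹) * f⁻¹ by group]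
      exact mul_mem (conj_mem_of_le_normalizer ((S.leK y).trans hKL) ha hfL) (inv_mem hfL)
    have hyL : S.M y ≤ L' := by
      rcases S.simple y (L' ⊓ S.M y) inf_le_right
        (inf_le_normalizer ((S.leK y).trans hKL) le_normalizer) with h | h
      · exfalso
        have h1 : (a * a') * b * (a * a')⁻¹ * b⁻¹ ∈ L' ⊓ S.M y := by
          refine Subgroup.mem_inf.2 ⟨?_, ?_⟩
          · rw [show (a * a') * b * (a * a')⁻¹ * b⁻¹ = (a * a') * (b * (a * a')⁻¹ * b⁻¹) by group]
            exact mul_mem hu (conj_mem_of_le_normalizer ((S.leK y).trans hKL) hb (inv_mem hu))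
          · exact mul_mem (conj_mem_of_le_normalizer (S.norm y)
              (mul_mem (S.le y ha) (S.le z ha'z)) hb) (inv_mem hb)
        have e : a' * b * a'⁻¹ = b := by
          rw [S.comm hfy ha'z hb, mul_inv_cancel_right]
        rw [h, mem_bot, show (a * a') * b * (a * a')⁻¹ * b⁻¹ = a * (a' * b * a'⁻¹) * a⁻¹ * b⁻¹ by
          group, e, mul_inv_eq_one, mul_inv_eq_iff_eq_mul] at h1
        exact hab h1
      · rw [← h]
        exact inf_le_left
    obtain ⟨j, hj⟩ := match' y hyL
    have h2 : f * a * f⁻¹ ∈ S.M y := hj ▸ conj_mem_of_le_normalizer (hLM j) hfL (hj ▸ ha)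
    have h3 : f * a * f⁻¹ ∈ S.M y ⊓ S.M z := ⟨h2, S.conj ⟨f, hfH⟩ y a ha⟩
    rw [S.disj y z (Ne.symm hfy), mem_bot, conj_eq_one_iff] at h3
    exact hab (by rw [h3, one_mul, mul_one])

end FactorSys

end CfsgLib.Char.UnfaithfulSub
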