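import Cfsg.Agent.Lib.Char.UnfaithfulSub.Core
import Cfsg.Agent.Lib.Char.UnfaithfulSub.System

/-!
# The intersection of the two kernels is trivial
-/

set_option autoImplicit false
set_option linter.unusedSectionVars false

open scoped commutatorElement
open Subgroup CfsgLib.Coprime CfsgLib.Invol CfsgLib.Char.TW

namespace CfsgLib.Char.UnfaithfulSub

theorem exists_alt_pair {α : Type*} [DecidableEq α] [Fintype α] (h4 : 4 ≤ Nat.card α) {y z u w : α}
    (hyz : y ≠ z) (huw : u ≠ w) : ∃ σ ∈ alternatingGroup α, σ y = u ∧ σ z = w := by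
  set z' := Equiv.swap y u z with hz'
  have hz'u : z' ≠ u := fun e => hyz
    ((Equiv.swap y u).injective (((Equiv.swap_apply_left y u).trans e.symm)))
  set σ := Equiv.swap z' w * Equiv.swap y u with hσ
  have h1 : σ y = u := by
    rw [hσ, Equiv.Perm.mul_apply, Equiv.swap_apply_left,
      Equiv.swap_apply_of_ne_of_ne hz'u.symm huw]
  have h2 : σ z = w := by
    rw [hσ, Equiv.Perm.mul_apply, ← hz', Equiv.swap_apply_left]
  by_cases hs : σ ∈ alternatingGroup α
  · exact ⟨σ, hs, h1, h2⟩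
  have hc : 1 < (({u, w} : Finset α)ᶜ).card := by
    rw [Finset.card_compl, Finset.card_pair huw, ← Nat.card_eq_fintype_card]
    omega
  obtain ⟨a, ha, b, hb, hab⟩ := Finset.one_lt_card.1 hc
  simp only [Finset.mem_compl, Finset.mem_insert, Finset.mem_singleton, not_or] at ha hb
  refine ⟨Equiv.swap a b * σ, ?_, ?_, ?_⟩
  · rw [Equiv.Perm.mem_alternatingGroup, map_mul, Equiv.Perm.sign_swap hab]
    rw [Equiv.Perm.mem_alternatingGroup] at hs
    rcases Int.units_eq_one_or (Equiv.Perm.sign σ) with h | h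
    · exact absurd h hs
    · rw [h]; rfl
  · rw [Equiv.Perm.mul_apply, h1, Equiv.swap_apply_of_ne_of_ne (Ne.symm ha.1) (Ne.symm hb.1)]
  · rw [Equiv.Perm.mul_apply, h2, Equiv.swap_apply_of_ne_of_ne (Ne.symm ha.2) (Ne.symm hb.2)]

theorem exists_alt_not_commute {α : Type*} [DecidableEq α] [Fintype α] (h5 : 5 ≤ Nat.card α) :
    ∃ τ ∈ alternatingGroup α, ∃ σ ∈ alternatingGroup α, τ * σ ≠ σ * τ := by
  haveI : Nontrivial (alternatingGroup α) :=
    alternatingGroup.nontrivial_of_three_le_card (by omega)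
  obtain ⟨t, ht⟩ := exists_ne (1 : alternatingGroup α)
  by_contra hno
  simp only [not_exists, not_and, not_not] at hno
  exact ht (Subtype.ext (alt_centralizer h5 fun s hs => hno t.1 t.2 s hs))

variable {G : Type*} [Group G] [Finite G] {H K : Subgroup G} {d : ℕ}

namespace Loc

variable (L : Loc H K d)

/-- A representative moving the base point to `y`. -/
noncomputable def rep (y : Fin d) : ↥H := (L.trans y).choose

theorem rep_spec (y : Fin d) : L.π (L.rep y) L.x = y := (L.trans y).choose_spec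

/-- The conjugates of the second kernel, indexed by the points of the first action. -/
noncomputable def Z (y : Fin d) : Subgroup G :=
  (fst K H).map (MulAut.conj (L.rep y : G)).toMonoidHom

theorem mem_Z {y : Fin d} {u : ↥H} (hu : L.π u L.x = y) {g : G} :
    g ∈ L.Z y ↔ (u : G)⁻¹ * g * u ∈ fst K H := by
  have hb : (((L.rep y)⁻¹ * u : ↥H) : G) ∈ K := (L.stab _).1 (by
    rw [map_mul, Equiv.Perm.mul_apply, hu, map_inv, Equiv.Perm.inv_eq_iff_eq, L.rep_spec])
  have h := mem_normalizer_iff.1 (le_normalizer_ncore K (K ⊓ H) hb) ((u : G)⁻¹ * g * u)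
  rw [h]
  simp only [Z, mem_map_equiv, MulAut.conj_symm_apply, Subgroup.coe_mul, Subgroup.coe_inv]
  simp [mul_assoc]

theorem Z_conj (h : ↥H) (y : Fin d) (g : G) :
    g ∈ L.Z y ↔ (h : G) * g * (h : G)⁻¹ ∈ L.Z (L.π h y) := by
  rw [L.mem_Z (L.rep_spec y), L.mem_Z (u := h * L.rep y)
    (by rw [map_mul, Equiv.Perm.mul_apply, L.rep_spec])]
  simp [mul_assoc]

theorem Z_x (g : G) : g ∈ L.Z L.x ↔ g ∈ fst K H := by
  rw [L.mem_Z (u := 1) (by simp)]
  simp

theorem eq_one_of_forall_Z (h0 : snd H K = ⊥) {g : G} (hg : g ∈ fst H K)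
    (h : ∀ y, g ∈ L.Z y) : g = 1 := by
  rw [← mem_bot, ← h0]
  exact mem_snd_of_forall L hg fun y => ⟨L.rep y, L.rep_spec y, (L.mem_Z (L.rep_spec y)).1 (h y)⟩

theorem Z_norm (y : Fin d) : fst H K ≤ normalizer (L.Z y : Set G) := fun e he =>
  mem_normalizer_iff.2 fun g => by
    have h := L.Z_conj ⟨e, L.fst_le he⟩ y g
    rwa [L.π_eq_one he] at h

variable (M : Loc K H d)

/-- The action of the first kernel on the other points of a neighbour's action. -/
noncomputable def c (y : Fin d) : ↥(fst H K) →* Equiv.Perm {z : Fin d // z ≠ M.x} :=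
  M.β.comp (conjFst (L.rep y))

theorem c_eq_one (y : Fin d) (e : ↥(fst H K)) : L.c M y e = 1 ↔ (e : G) ∈ L.Z y := by
  rw [L.mem_Z (L.rep_spec y)]
  exact M.β_eq_one _

theorem alt_le_range_c (hP : Pair H K) (h6 : 6 ≤ d)
    (hL : alternatingGroup (Fin d) ≤ L.π.range) (hne : fst H K ≠ ⊥) (y : Fin d) :
    alternatingGroup {z : Fin d // z ≠ M.x} ≤ (L.c M y).range := by
  intro τ hτ
  obtain ⟨b, hb, rfl⟩ := alt_le_map_fst hP h6 L hL M hne hτ
  refine ⟨⟨(L.rep y : G) * b * (L.rep y : G)⁻¹,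
    (mem_normalizer_iff.1 (le_normalizer_ncore H (H ⊓ K) (L.rep y).2) _).1 (mem_subgroupOf.1 hb)⟩,
    congrArg M.β (Subtype.ext ?_)⟩
  rw [coe_conjFst]
  simp [mul_assoc]

/-- The derived subgroup of the first kernel. -/
abbrev E₁ (_L : Loc H K d) : Subgroup G := (commutator ↥(fst H K)).map (fst H K).subtype

theorem E₁_le : L.E₁ ≤ fst H K := map_subtype_le _

theorem E₁_norm : H ≤ normalizer (L.E₁ : Set G) :=
  (le_normalizer_ncore H (H ⊓ K)).trans (CfsgLib.PGroup.le_normalizer_map_char _)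

theorem c_mem_alt {y : Fin d} {g : G} (hg : g ∈ L.E₁) :
    L.c M y ⟨g, L.E₁_le hg⟩ ∈ alternatingGroup {z : Fin d // z ≠ M.x} := by
  obtain ⟨e, he, rfl⟩ := hg
  have := Abelianization.commutator_subset_ker (Equiv.Perm.sign.comp (L.c M y)) he
  exact Equiv.Perm.mem_alternatingGroup.2 this

/-- A subgroup normalized by the first kernel which is not in the kernel of `c y` maps onto the
alternating group. -/
theorem exists_c_eq (hP : Pair H K) (h6 : 6 ≤ d) (hL : alternatingGroup (Fin d) ≤ L.π.range)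
    (hne : fst H K ≠ ⊥) {y : Fin d} {N : Subgroup G} (hN : N ≤ fst H K)
    (hn : fst H K ≤ normalizer (N : Set G)) {a : G} (ha : a ∈ N) (hay : a ∉ L.Z y)
    {τ : Equiv.Perm {z : Fin d // z ≠ M.x}} (hτ : τ ∈ alternatingGroup {z : Fin d // z ≠ M.x}) :
    ∃ n, ∃ hn : n ∈ N, L.c M y ⟨n, hN hn⟩ = τ := by
  haveI : (N.subgroupOf (fst H K)).Normal := (normal_subgroupOf_iff_le_normalizer hN).2 hn
  have hnn := le_normalizer_map (H := N.subgroupOf (fst H K)) (L.c M y)
  rw [normalizer_eq_top, ← MonoidHom.range_eq_map] at hnn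
  rcases normal_dichotomy (M.five_le h6) (L.alt_le_range_c M hP h6 hL hne y) (map_le_range _ _) hnn
    with h | h
  · refine absurd ((L.c_eq_one M y ⟨a, hN ha⟩).1 ?_) hay
    rw [← mem_bot, ← h]
    exact mem_map_of_mem _ (mem_subgroupOf.2 ha)
  · obtain ⟨n, hn', rfl⟩ := h hτ
    exact ⟨n, mem_subgroupOf.1 hn', rfl⟩

theorem exists_mem_E₁_notMem (M : Loc K H d) (hP : Pair H K) (h6 : 6 ≤ d)
    (hL : alternatingGroup (Fin d) ≤ L.π.range) (hne : fst H K ≠ ⊥) (y : Fin d) :
    ∃ a ∈ L.E₁, a ∉ L.Z y := by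
  obtain ⟨τ, hτ, σ, hσ, hτσ⟩ := exists_alt_not_commute (M.five_le h6)
  obtain ⟨s, hs⟩ := L.alt_le_range_c M hP h6 hL hne y hτ
  obtain ⟨t, ht⟩ := L.alt_le_range_c M hP h6 hL hne y hσ
  refine ⟨_, mem_map_of_mem _ (commutator_mem_commutator (mem_top s) (mem_top t)), fun hz => hτσ ?_⟩
  have := (L.c_eq_one M y ⁅s, t⁆).2 hz
  rw [map_commutatorElement, hs, ht, commutatorElement_eq_one_iff_mul_comm] at this
  exact this

theorem commute_of_inf_Z {y : Fin d} {S : Subgroup G} (hS : S ≤ fst H K)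
    (hn : fst H K ≤ normalizer (S : Set G)) {e n : G} (he : e ∈ fst H K) (hn' : n ∈ S)
    (hey : e * n = n * e) :
    L.c M y ⟨e, he⟩ * L.c M y ⟨n, hS hn'⟩ = L.c M y ⟨n, hS hn'⟩ * L.c M y ⟨e, he⟩ := by
  rw [← map_mul, ← map_mul]
  exact congrArg _ (Subtype.ext hey)

end Loc

theorem exists_two (h6 : 6 ≤ d) (L : Loc H K d) (hL : alternatingGroup (Fin d) ≤ L.π.range)
    {y z u w : Fin d} (hyz : y ≠ z) (huw : u ≠ w) : ∃ h, L.π h y = u ∧ L.π h z = w := by
  obtain ⟨σ, hσ, h1, h2⟩ := exists_alt_pair (by simp; omega) hyz huw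
  obtain ⟨h, rfl⟩ := hL hσ
  exact ⟨h, h1, h2⟩

/-- The kernels of the two local actions meet trivially. -/
theorem inf_fst_eq_bot (hP : Pair H K) (h6 : 6 ≤ d) (L : Loc H K d)
    (hL : alternatingGroup (Fin d) ≤ L.π.range) (M : Loc K H d) (hne : fst H K ≠ ⊥)
    (h0 : snd H K = ⊥) : fst H K ⊓ fst K H = ⊥ := by
  have h5 := M.five_le h6
  have hEB : fst H K ≤ H ⊓ K := ncore_le _ _
  have hFB : fst K H ≤ H ⊓ K := fst_le_inf' K H
  have hE₁ : fst H K ≤ normalizer (L.E₁ : Set G) := L.fst_le.trans L.E₁_norm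
  by_cases hA : ∃ y z, y ≠ z ∧ ∀ g ∈ L.E₁, g ∈ L.Z y → g ∈ L.Z z
  · obtain ⟨y, z, hyz, hA⟩ := hA
    have hbot : L.E₁ ⊓ fst K H = ⊥ := by
      refine (Subgroup.eq_bot_iff_forall _).2 fun g hg =>
        L.eq_one_of_forall_Z h0 (L.E₁_le hg.1) fun w => ?_
      by_cases hw : w = L.x
      · rw [hw, L.Z_x]; exact hg.2
      obtain ⟨h, hy, hz⟩ := exists_two h6 L hL hyz (Ne.symm hw)
      have h1 : (h : G)⁻¹ * g * h ∈ L.Z y := by
        rw [L.Z_conj h, hy, L.Z_x]
        simpa [mul_assoc] using hg.2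
      have h2 : (h : G)⁻¹ * g * h ∈ L.E₁ := by
        have := (mem_normalizer_iff.1 (L.E₁_norm (inv_mem h.2)) g).1 hg.1
        rwa [inv_inv] at this
      have h3 := (L.Z_conj h z _).1 (hA _ h2 h1)
      rw [hz] at h3
      simpa [mul_assoc] using h3
    refine (Subgroup.eq_bot_iff_forall _).2 fun g hg => L.eq_one_of_forall_Z h0 hg.1 fun w => ?_
    rw [← L.c_eq_one M w ⟨g, hg.1⟩]
    refine alt_centralizer h5 fun τ hτ => ?_
    obtain ⟨a, ha, hay⟩ := L.exists_mem_E₁_notMem M hP h6 hL hne w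
    obtain ⟨n, hn, rfl⟩ := L.exists_c_eq M hP h6 hL hne L.E₁_le hE₁ ha hay hτ
    refine L.commute_of_inf_Z M L.E₁_le hE₁ hg.1 hn ?_
    refine commute_of_mutual (A := fst H K ⊓ fst K H) (B := L.E₁) (inf_le_left.trans hE₁) ?_ ?_
      hg hn
    · exact inf_le_normalizer (L.E₁_le.trans le_normalizer)
        (L.E₁_le.trans ((fst_le_inf' H K).trans (inf_le_left.trans (le_normalizer_ncore _ _))))
    · rw [eq_bot_iff, ← hbot]
      exact le_inf inf_le_right (inf_le_left.trans inf_le_right)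
  · exfalso
    simp only [not_exists, not_and, not_forall] at hA
    have key : ∀ (y : Fin d) (S : Finset (Fin d)), y ∉ S →
        ∃ a ∈ L.E₁, (∀ z ∈ S, a ∈ L.Z z) ∧ a ∉ L.Z y := by
      intro y S
      induction S using Finset.induction with
      | empty =>
        intro _
        obtain ⟨a, ha, hay⟩ := L.exists_mem_E₁_notMem M hP h6 hL hne y
        exact ⟨a, ha, by simp, hay⟩
      | insert z S hzS ih =>
        intro hy
        rw [Finset.mem_insert, not_or] at hy
        obtain ⟨a, ha, haS, hay⟩ := ih hy.2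
        obtain ⟨b, hb, hbz, hby⟩ := hA z y (Ne.symm hy.1)
        let I : Subgroup G := L.E₁ ⊓ ⨅ z' ∈ S, L.Z z'
        let J : Subgroup G := L.E₁ ⊓ L.Z z
        have hI : I ≤ fst H K := inf_le_left.trans L.E₁_le
        have hJ : J ≤ fst H K := inf_le_left.trans L.E₁_le
        have hIn : fst H K ≤ normalizer (I : Set G) := fun e he => mem_normalizer_iff.2 fun g => by
          simp only [I, Subgroup.mem_inf, mem_iInf]
          exact and_congr (mem_normalizer_iff.1 (hE₁ he) g)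
            (forall_congr' fun z' => forall_congr' fun _ => mem_normalizer_iff.1 (L.Z_norm z' he) g)
        have hJn : fst H K ≤ normalizer (J : Set G) := inf_le_normalizer hE₁ (L.Z_norm z)
        obtain ⟨τ, hτ, σ, hσ, hτσ⟩ := exists_alt_not_commute h5
        obtain ⟨s, hs, hs'⟩ := L.exists_c_eq M hP h6 hL hne hI hIn
          (show a ∈ I from ⟨ha, by simpa [mem_iInf] using haS⟩) hay hτ
        obtain ⟨t, ht, ht'⟩ := L.exists_c_eq M hP h6 hL hne hJ hJn
          (show b ∈ J from ⟨hb, hbz⟩) hby hσ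
        have h1 : ⁅s, t⁆ ∈ I := by
          rw [commutatorElement_def, show s * t * s⁻¹ * t⁻¹ = s * (t * s⁻¹ * t⁻¹) by group]
          exact mul_mem hs (conj_mem_of_le_normalizer hIn (hJ ht) (inv_mem hs))
        have h2 : ⁅s, t⁆ ∈ J := by
          rw [commutatorElement_def]
          exact mul_mem (conj_mem_of_le_normalizer hJn (hI hs) ht) (inv_mem ht)
        refine ⟨⁅s, t⁆, h1.1, fun z' hz' => ?_, fun hz => hτσ ?_⟩
        · rcases Finset.mem_insert.1 hz' with rfl | hz'
          · exact h2.2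
          · exact mem_iInf.1 (mem_iInf.1 h1.2 z') hz'
        · have := (L.c_eq_one M y ⁅(⟨s, hI hs⟩ : ↥(fst H K)), (⟨t, hJ ht⟩ : ↥(fst H K))⁆).2 hz
          rw [map_commutatorElement, hs', ht', commutatorElement_eq_one_iff_mul_comm] at this
          exact this
    let N : Fin d → Subgroup G := fun y => L.E₁ ⊓ ⨅ z, ⨅ (_ : z ≠ y), L.Z z
    have mem_N : ∀ y g, g ∈ N y ↔ g ∈ L.E₁ ∧ ∀ z, z ≠ y → g ∈ L.Z z := fun y g => by
      simp [N, mem_iInf]
    have hNE : ∀ y, N y ≤ fst H K := fun y => inf_le_left.trans L.E₁_le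
    have hNn : ∀ y, fst H K ≤ normalizer (N y : Set G) := fun y e he =>
      mem_normalizer_iff.2 fun g => by
        rw [mem_N, mem_N]
        exact and_congr (mem_normalizer_iff.1 (hE₁ he) g)
          (forall_congr' fun z' => forall_congr' fun _ => mem_normalizer_iff.1 (L.Z_norm z' he) g)
    have hsurj : ∀ y, ∀ τ ∈ alternatingGroup {z : Fin d // z ≠ M.x},
        ∃ n, ∃ hn : n ∈ N y, L.c M y ⟨n, hNE y hn⟩ = τ := by
      intro y τ hτ
      obtain ⟨a, ha, haS, hay⟩ := key y (Finset.univ.erase y) (Finset.notMem_erase _ _)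
      exact L.exists_c_eq M hP h6 hL hne (hNE y) (hNn y)
        ((mem_N y a).2 ⟨ha, fun z hz => haS z (Finset.mem_erase.2 ⟨hz, Finset.mem_univ _⟩)⟩) hay hτ
    have hinj : ∀ y g, g ∈ N y → g ∈ L.Z y → g = 1 := fun y g hg hz =>
      L.eq_one_of_forall_Z h0 (hNE y hg) fun w => by
        by_cases hw : w = y
        · rwa [hw]
        · exact ((mem_N y g).1 hg).2 w hw
    have hsep : ∀ y, ∀ e, ∀ he : e ∈ fst H K, (∀ m ∈ N y, e * m = m * e) → e ∈ L.Z y := by
      intro y e he hc
      rw [← L.c_eq_one M y ⟨e, he⟩]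
      refine alt_centralizer h5 fun τ hτ => ?_
      obtain ⟨n, hn, rfl⟩ := hsurj y τ hτ
      exact L.commute_of_inf_Z M (hNE y) (hNn y) he hn (hc n hn)
    obtain ⟨g, hg⟩ := hP.conj
    refine FactorSys.false (H := H) (K := K) (E := fst H K) (F := fst K H) (d := d)
      { π := L.π
        x := L.x
        M := N
        stab := L.stab
        trans := fun y z => ?_
        trans_ne := fun y z hy hz => exists_two h6 L hL (Ne.symm hy) (Ne.symm hz)
        hE := hEB
        hF := hFB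
        nE := le_normalizer_ncore _ _
        nF := le_normalizer_ncore _ _
        ker := L.mem_fst
        le := hNE
        norm := hNn
        conj := fun h y m hm => ?_
        disj := fun y z hyz => (Subgroup.eq_bot_iff_forall _).2 fun m hm =>
          hinj y m hm.1 (((mem_N z m).1 hm.2).2 y hyz)
        simple := fun y S hS hSn => ?_
        nc := fun y => ?_
        le_F := fun y hy m hm => (L.Z_x m).1 (((mem_N y m).1 hm).2 L.x (Ne.symm hy))
        sep := fun e he hc => L.eq_one_of_forall_Z h0 he fun y => hsep y e he (hc y)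
        sepF := fun e he heF hc => L.eq_one_of_forall_Z h0 he fun y => ?_ } g hg
      (fst_symm_ne_bot hP h6 L hL M hne)
    · exact ⟨L.rep z * (L.rep y)⁻¹, by
        rw [map_mul, map_inv, Equiv.Perm.mul_apply,
          show (L.π (L.rep y))⁻¹ y = L.x by rw [Equiv.Perm.inv_eq_iff_eq, L.rep_spec], L.rep_spec]⟩
    · rw [mem_N]
      refine ⟨(mem_normalizer_iff.1 (L.E₁_norm h.2) m).1 ((mem_N y m).1 hm).1, fun z hz => ?_⟩
      have hz' : L.π h⁻¹ z ≠ y := fun e => hz <| by
        rw [← e, ← Equiv.Perm.mul_apply, ← map_mul, mul_inv_cancel, map_one, Equiv.Perm.one_apply]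
      have := (L.Z_conj h _ m).1 (((mem_N y m).1 hm).2 _ hz')
      rwa [← Equiv.Perm.mul_apply, ← map_mul, mul_inv_cancel, map_one] at this
    · by_cases hS0 : S = ⊥
      · exact Or.inl hS0
      right
      refine le_antisymm hS fun m hm => ?_
      let R := ((N y).subgroupOf (fst H K)).map (L.c M y)
      let S' := (S.subgroupOf (fst H K)).map (L.c M y)
      have hR : alternatingGroup {z : Fin d // z ≠ M.x} ≤ R := fun τ hτ => by
        obtain ⟨n, hn, rfl⟩ := hsurj y τ hτ
        exact mem_map_of_mem _ (mem_subgroupOf.2 hn)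
      have hRS : R ≤ normalizer (S' : Set (Equiv.Perm _)) := by
        refine (map_mono (f := L.c M y) fun r hr => ?_).trans (le_normalizer_map _)
        refine mem_normalizer_iff.2 fun s => ?_
        exact mem_normalizer_iff.1 (hSn hr) (s : G)
      rcases normal_dichotomy h5 hR (map_mono fun s hs => hS hs) hRS with h | h
      · refine absurd ((Subgroup.eq_bot_iff_forall _).2 fun s hs => hinj y s (hS hs) ?_) hS0
        rw [← L.c_eq_one M y ⟨s, hNE y (hS hs)⟩, ← mem_bot, ← h]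
        exact mem_map_of_mem _ (mem_subgroupOf.2 hs)
      · obtain ⟨s, hs, hsm⟩ := h (L.c_mem_alt M (y := y) ((mem_N y m).1 hm).1)
        have h1 : m * (s : G)⁻¹ = 1 := by
          refine hinj y _ (mul_mem hm (inv_mem (hS hs))) ?_
          refine (L.c_eq_one M y (⟨m, hNE y hm⟩ * s⁻¹)).1 ?_
          rw [map_mul, map_inv, hsm, mul_inv_cancel]
        rw [mul_inv_eq_one.1 h1]
        exact hs
    · obtain ⟨τ, hτ, σ, hσ, hτσ⟩ := exists_alt_not_commute h5
      obtain ⟨a, ha, rfl⟩ := hsurj y τ hτ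
      obtain ⟨b, hb, rfl⟩ := hsurj y σ hσ
      exact ⟨a, ha, b, hb, fun e => hτσ (L.commute_of_inf_Z M (hNE y) (hNn y) (hNE y ha) hb e)⟩
    · by_cases hy : y = L.x
      · rw [hy, L.Z_x]; exact heF
      · exact hsep y e he (hc y hy)

end CfsgLib.Char.UnfaithfulSub
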