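import Cfsg.Agent.Lib.Char.UnfaithfulSub.Basic

/-!
# Local actions of two neighbouring stabilizers

`Loc H K d` is an action of `H` on `d` points in which `H ⊓ K` is a point stabilizer.  When both
`H` and `K` act almost alternatingly, one second core is trivial and the kernel `fst H K` of the
first action is not contained in the kernel `fst K H` of the second.
-/

set_option autoImplicit false
set_option linter.unusedSectionVars false

open Subgroup CfsgLib.Coprime CfsgLib.Invol CfsgLib.Char.TW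

namespace CfsgLib.Char.UnfaithfulSub

variable {G : Type*} [Group G] [Finite G] {H K : Subgroup G} {d : ℕ}

/-- An action of `H` on `d` points with `H ⊓ K` as a point stabilizer. -/
structure Loc (H K : Subgroup G) (d : ℕ) where
  π : ↥H →* Equiv.Perm (Fin d)
  x : Fin d
  stab : ∀ h : H, π h x = x ↔ (h : G) ∈ K
  trans : ∀ y, ∃ h : H, π h x = y

/-- The action on the cosets of `H ⊓ K`. -/
theorem Loc.exists_of_relIndex (hd : (H ⊓ K).relIndex H = d) :
    Nonempty (Loc H K d) := by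
  let e : ↥H ⧸ (H ⊓ K).subgroupOf H ≃ Fin d :=
    Finite.equivFinOfCardEq ((index_eq_card _).symm.trans hd)
  refine ⟨⟨e.permCongrHom.toMonoidHom.comp (MulAction.toPermHom ↥H (↥H ⧸ (H ⊓ K).subgroupOf H)),
    e ((1 : ↥H) : ↥H ⧸ (H ⊓ K).subgroupOf H), fun h => ?_, fun y => ?_⟩⟩
  · simp only [MonoidHom.coe_comp, MulEquiv.coe_toMonoidHom, Function.comp_apply,
      Equiv.permCongrHom_coe, Equiv.permCongr_apply, Equiv.symm_apply_apply, EmbeddingLike.apply_eq_iff_eq]
    show h • ((1 : ↥H) : ↥H ⧸ (H ⊓ K).subgroupOf H) = _ ↔ _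
    rw [MulAction.Quotient.smul_coe, QuotientGroup.eq, smul_eq_mul, mul_one, mul_one, mem_subgroupOf,
      Subgroup.coe_inv, inv_mem_iff, Subgroup.mem_inf]
    simp
  · obtain ⟨z, rfl⟩ := e.surjective y
    induction z using QuotientGroup.induction_on with
    | H h => exact ⟨h, by simp [Equiv.permCongr_apply, MulAction.Quotient.smul_coe]⟩

namespace Loc

variable (L : Loc H K d)

theorem mem_fst (h : ↥H) : (h : G) ∈ fst H K ↔ L.π h = 1 := by
  have h1 : (h : G) ∈ fst H K ↔ ∀ u : ↥H, ((u * h * u⁻¹ : ↥H) : G) ∈ H ⊓ K := by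
    constructor
    · rintro ⟨y, hy, e⟩ u
      rw [← Subtype.ext e]
      exact mem_subgroupOf.1 (hy u)
    · exact fun hu => ⟨h, fun u => mem_subgroupOf.2 (hu u), rfl⟩
  rw [h1]
  constructor
  · intro hu
    refine Equiv.ext fun y => ?_
    obtain ⟨u, rfl⟩ := L.trans y
    have h2 := (L.stab _).2 (Subgroup.mem_inf.1 (hu u⁻¹)).2
    simp only [inv_inv, map_mul, map_inv, Equiv.Perm.mul_apply] at h2
    simpa using congrArg (L.π u) h2
  · intro hh u
    refine Subgroup.mem_inf.2 ⟨(u * h * u⁻¹).2, (L.stab _).1 ?_⟩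
    simp [map_mul, hh]

theorem fst_le (_L : Loc H K d) : fst H K ≤ H := ncore_le_left _ _

theorem π_eq_one {g : G} (hg : g ∈ fst H K) : L.π ⟨g, L.fst_le hg⟩ = 1 :=
  (L.mem_fst ⟨g, L.fst_le hg⟩).1 hg

theorem fst_eq : fst H K = L.π.ker.map H.subtype := by
  ext g
  constructor
  · exact fun hg => ⟨⟨g, L.fst_le hg⟩, MonoidHom.mem_ker.2 (L.π_eq_one hg), rfl⟩
  · rintro ⟨h, hh, rfl⟩
    exact (L.mem_fst h).2 (MonoidHom.mem_ker.1 hh)

theorem card_eq : Nat.card H = Nat.card (fst H K) * Nat.card L.π.range := by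
  rw [L.fst_eq, ← Nat.card_congr (L.π.ker.equivMapOfInjective _ H.subtype_injective).toEquiv,
    ← index_ker, card_mul_index]

theorem fixed (b : ↥(H ⊓ K)) : L.π ⟨b, (Subgroup.mem_inf.1 b.2).1⟩ L.x = L.x :=
  (L.stab _).2 (Subgroup.mem_inf.1 b.2).2

theorem ne_iff (b : ↥(H ⊓ K)) (y : Fin d) :
    L.π ⟨b, (Subgroup.mem_inf.1 b.2).1⟩ y ≠ L.x ↔ y ≠ L.x := by
  conv_lhs => rw [← L.fixed b]
  exact (Equiv.injective _).ne_iff

/-- The action of `H ⊓ K` on the other points. -/
def β : ↥(H ⊓ K) →* Equiv.Perm {y : Fin d // y ≠ L.x} :=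
  MonoidHom.mk' (fun b => (L.π ⟨b, (Subgroup.mem_inf.1 b.2).1⟩).subtypePerm (L.ne_iff b))
    fun a b => by
      ext y
      simp only [Equiv.Perm.mul_apply, Equiv.Perm.subtypePerm_apply]
      exact congrArg (fun σ => (σ y.1).val) (map_mul L.π ⟨a, (Subgroup.mem_inf.1 a.2).1⟩
        ⟨b, (Subgroup.mem_inf.1 b.2).1⟩)

theorem β_apply (b : ↥(H ⊓ K)) (y : {y : Fin d // y ≠ L.x}) :
    (L.β b y : Fin d) = L.π ⟨b, (Subgroup.mem_inf.1 b.2).1⟩ y := rfl

theorem β_eq_one (b : ↥(H ⊓ K)) : L.β b = 1 ↔ (b : G) ∈ fst H K := by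
  rw [show ((b : G) ∈ fst H K) ↔ _ from L.mem_fst ⟨b, (Subgroup.mem_inf.1 b.2).1⟩]
  constructor
  · intro h
    refine Equiv.ext fun y => ?_
    by_cases hy : y = L.x
    · subst hy
      exact L.fixed b
    · exact congrArg (fun σ => ((σ ⟨y, hy⟩ : {y : Fin d // y ≠ L.x}) : Fin d)) h
  · intro h
    refine Equiv.ext fun y => Subtype.ext ?_
    rw [β_apply, h]
    rfl

theorem nat_card_ne : Nat.card {y : Fin d // y ≠ L.x} = d - 1 := by
  rw [Nat.card_eq_fintype_card, Fintype.card_subtype_compl]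
  simp

theorem five_le (h6 : 6 ≤ d) : 5 ≤ Nat.card {y : Fin d // y ≠ L.x} := by
  rw [L.nat_card_ne]; omega

theorem alt_le_range_β (hL : alternatingGroup (Fin d) ≤ L.π.range) :
    alternatingGroup {y : Fin d // y ≠ L.x} ≤ L.β.range := by
  intro τ hτ
  obtain ⟨h, hh⟩ := hL (show Equiv.Perm.ofSubtype τ ∈ alternatingGroup (Fin d) by
    rw [Equiv.Perm.mem_alternatingGroup, Equiv.Perm.sign_ofSubtype]
    exact Equiv.Perm.mem_alternatingGroup.1 hτ)
  have hK : (h : G) ∈ K :=
    (L.stab h).1 (by rw [hh, Equiv.Perm.ofSubtype_apply_of_not_mem _ (by simp)])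
  refine ⟨⟨h, Subgroup.mem_inf.2 ⟨h.2, hK⟩⟩, Equiv.ext fun y => Subtype.ext ?_⟩
  rw [β_apply, hh]
  exact Equiv.Perm.ofSubtype_apply_coe τ y

end Loc

theorem not_isPGroup_of_alt_le {α : Type*} [Fintype α] [DecidableEq α] (h5 : 5 ≤ Nat.card α)
    {p : ℕ} [Fact p.Prime] {N : Subgroup (Equiv.Perm α)} (hN : IsPGroup p N)
    (h : alternatingGroup α ≤ N) : False := by
  haveI : Nontrivial (alternatingGroup α) :=
    alternatingGroup.nontrivial_of_three_le_card (by omega)
  exact (Subgroup.nontrivial_iff_ne_bot _).1 (hN.to_le h).center_nontrivial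
    (alternatingGroup.center_eq_bot (by omega))

theorem Loc.coreOf_le_fst (L : Loc H K d) (hL : alternatingGroup (Fin d) ≤ L.π.range)
    (h6 : 6 ≤ d) (p : ℕ) [Fact p.Prime] : coreOf p (H ⊓ K) ≤ fst H K := by
  have hn : L.β.range ≤ normalizer ((Cfsg.pCore p ↥(H ⊓ K)).map L.β : Set (Equiv.Perm _)) := by
    haveI : (Cfsg.pCore p ↥(H ⊓ K)).Normal := by
      haveI := pCore_characteristic (G := ↥(H ⊓ K)) p
      infer_instance
    have h := le_normalizer_map (H := Cfsg.pCore p ↥(H ⊓ K)) L.β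
    rwa [normalizer_eq_top, ← MonoidHom.range_eq_map] at h
  rcases normal_dichotomy (L.five_le h6) (L.alt_le_range_β hL) (map_le_range _ _) hn with h | h
  · rintro _ ⟨b, hb, rfl⟩
    refine (L.β_eq_one b).1 ?_
    rw [← mem_bot, ← h]
    exact mem_map_of_mem _ hb
  · exact (not_isPGroup_of_alt_le (L.five_le h6) ((pCore_isPGroup p).map _) h).elim

theorem snd_eq_bot (hP : Pair H K) (L : Loc H K d)
    (hL : alternatingGroup (Fin d) ≤ L.π.range) (h6 : 6 ≤ d) :
    snd H K = ⊥ ∨ snd K H = ⊥ := by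
  by_contra hcon
  simp only [not_or] at hcon
  obtain ⟨p, hp, -, -, hpX, -⟩ := hP.thompson_wielandt hcon.1 hcon.2
  haveI := Fact.mk hp
  refine hcon.1 (le_bot_iff.1 ?_)
  rw [← hP.coreOf_inf_eq_bot (L.coreOf_le_fst hL h6 p)]
  exact le_coreOf (snd_le_inf H K) (inf_le_left.trans (le_normalizer_ncore _ _)) hpX

theorem fst_le_inf' (H K : Subgroup G) : fst H K ≤ K ⊓ H :=
  (ncore_le _ _).trans (inf_comm H K).le

/-- Conjugation of the first kernel by an element of `H`, into `K ⊓ H`. -/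
def conjFst (h : ↥H) : ↥(fst H K) →* ↥(K ⊓ H) :=
  MonoidHom.mk' (fun e => ⟨(h : G)⁻¹ * e * h, fst_le_inf' H K (by
      have := (mem_normalizer_iff.1 (le_normalizer_ncore H (H ⊓ K) (inv_mem h.2)) (e : G)).1 e.2
      rwa [inv_inv] at this)⟩)
    fun a b => Subtype.ext (by simp [mul_assoc])

theorem coe_conjFst (h : ↥H) (e : ↥(fst H K)) : (conjFst h e : G) = (h : G)⁻¹ * e * h := rfl

theorem mem_snd_of_forall (L : Loc H K d) {g : G} (hg : g ∈ fst H K)
    (h : ∀ y, ∃ u : ↥H, L.π u L.x = y ∧ (u : G)⁻¹ * g * u ∈ fst K H) : g ∈ snd H K := by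
  refine ⟨⟨g, L.fst_le hg⟩, fun v => mem_subgroupOf.2 (Subgroup.mem_inf.2 ⟨?_, ?_⟩), rfl⟩
  · exact (mem_normalizer_iff.1 (le_normalizer_ncore H (H ⊓ K) v.2) g).1 hg
  · obtain ⟨u, hu, hu'⟩ := h (L.π v⁻¹ L.x)
    have hb : ((v * u : ↥H) : G) ∈ K := (L.stab _).1 (by
      rw [map_mul, Equiv.Perm.mul_apply, hu, ← Equiv.Perm.mul_apply, ← map_mul, mul_inv_cancel,
        map_one]
      rfl)
    have := (mem_normalizer_iff.1 (le_normalizer_ncore K (K ⊓ H) hb) _).1 hu'
    simpa [mul_assoc] using this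

theorem not_sec_fst_of_snd_eq_bot (h5 : 5 ≤ d) (L : Loc H K d) (M : Loc K H d)
    (h : snd H K = ⊥) : ¬ Sec d ↥(fst H K) := by
  choose r hr using L.trans
  let Φ : ↥(fst H K) →* (Fin d → Equiv.Perm {y : Fin d // y ≠ M.x}) :=
    Pi.monoidHom fun y => M.β.comp (conjFst (r y))
  have hΦ : Function.Injective Φ := by
    refine (injective_iff_map_eq_one Φ).2 fun e he => Subtype.ext (mem_bot.1 (h ▸ ?_))
    refine mem_snd_of_forall L e.2 fun y => ⟨r y, hr y, ?_⟩
    have := (M.β_eq_one _).1 (congrFun he y)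
    rwa [coe_conjFst] at this
  exact fun hs => not_sec_pi h5 (not_sec_perm h5 (by rw [M.nat_card_ne]; omega)) d (hs.map Φ hΦ)

theorem not_sec_fst (h5 : 5 ≤ d) (L : Loc H K d) (M : Loc K H d)
    (h : snd H K = ⊥ ∨ snd K H = ⊥) : ¬ Sec d ↥(fst H K) := by
  rcases h with h | h
  · exact not_sec_fst_of_snd_eq_bot h5 L M h
  intro hs
  let f : ↥(fst H K) →* Equiv.Perm {y : Fin d // y ≠ M.x} :=
    M.β.comp (Subgroup.inclusion (fst_le_inf' H K))
  rcases hs.of_hom h5 f with h1 | h1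
  · let i : ↥f.ker →* ↥(fst K H) :=
      ((fst H K).subtype.comp f.ker.subtype).codRestrict _ fun e =>
        (M.β_eq_one _).1 (MonoidHom.mem_ker.1 e.2)
    exact not_sec_fst_of_snd_eq_bot h5 M L h
      (h1.map i fun a b e => Subtype.ext (Subtype.ext (congrArg (fun z : ↥(fst K H) => (z : G)) e)))
  · exact not_sec_perm h5 (by rw [M.nat_card_ne]; omega) (h1.map _ f.range.subtype_injective)

theorem alt_le_of_two_mul_card {α : Type*} [Fintype α] [DecidableEq α]
    {R : Subgroup (Equiv.Perm α)} (h : (Nat.card α).factorial ≤ 2 * Nat.card R) :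
    alternatingGroup α ≤ R := by
  refine Equiv.Perm.alternatingGroup_le_of_index_le_two (Nat.le_of_mul_le_mul_right ?_ (Nat.card_pos (α := R)))
  rw [index_mul_card, Nat.card_perm]
  exact h

theorem alt_le_range_symm (hP : Pair H K) (h6 : 6 ≤ d) (L : Loc H K d)
    (hL : alternatingGroup (Fin d) ≤ L.π.range) (M : Loc K H d) :
    alternatingGroup (Fin d) ≤ M.π.range := by
  have h5 : 5 ≤ d := by omega
  have hH : Sec d ↥H := by
    refine ⟨(alternatingGroup (Fin d)).comap L.π, L.π.subgroupComap _, ?_⟩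
    rintro ⟨a, ha⟩
    obtain ⟨h, rfl⟩ := hL ha
    exact ⟨⟨h, ha⟩, rfl⟩
  have hK : Sec d ↥K := by
    obtain ⟨g, hg⟩ := hP.conj
    exact hH.map (((MulAut.conj g).subgroupMap H).trans (MulEquiv.subgroupCongr hg.symm)).toMonoidHom
      (MulEquiv.injective _)
  rcases hK.of_hom h5 M.π with h | h
  · exfalso
    let e := (M.π.ker.equivMapOfInjective _ K.subtype_injective).trans
      (MulEquiv.subgroupCongr M.fst_eq.symm)
    exact not_sec_fst h5 M L (snd_eq_bot hP L hL h6).symm (h.map e.toMonoidHom e.injective)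
  · refine alt_le_of_two_mul_card ?_
    rw [Nat.card_fin]
    exact h.card_ge h5

theorem exists_mem_notMem_fst (hP : Pair H K) (h6 : 6 ≤ d) (L : Loc H K d)
    (hL : alternatingGroup (Fin d) ≤ L.π.range) (M : Loc K H d) (hne : fst H K ≠ ⊥) :
    ¬ fst H K ≤ fst K H := by
  intro hle
  let F := fst K H
  let f : ↥F →* Equiv.Perm {y : Fin d // y ≠ L.x} :=
    L.β.comp (Subgroup.inclusion (fst_le_inf' K H))
  have hker : f.ker = (fst H K).subgroupOf F := by
    ext e
    rw [MonoidHom.mem_ker, mem_subgroupOf]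
    exact L.β_eq_one _
  have hn : L.β.range ≤ normalizer (f.range : Set (Equiv.Perm _)) := by
    have h1 : f.range = (F.subgroupOf (H ⊓ K)).map L.β := by
      ext σ
      constructor
      · rintro ⟨e, rfl⟩
        exact ⟨_, mem_subgroupOf.2 e.2, rfl⟩
      · rintro ⟨b, hb, rfl⟩
        exact ⟨⟨b, mem_subgroupOf.1 hb⟩, rfl⟩
    haveI : (F.subgroupOf (H ⊓ K)).Normal :=
      (normal_subgroupOf_iff_le_normalizer ((fst_le_inf' K H))).2
        (inf_le_right.trans (le_normalizer_ncore _ _))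
    have h := le_normalizer_map (H := F.subgroupOf (H ⊓ K)) L.β
    rwa [normalizer_eq_top, ← MonoidHom.range_eq_map, ← h1] at h
  have hfR : f.range ≤ L.β.range := by
    rintro _ ⟨e, rfl⟩
    exact ⟨_, rfl⟩
  rcases normal_dichotomy (L.five_le h6) (L.alt_le_range_β hL) hfR hn with h | h
  · have hFE : F ≤ fst H K := fun e he => by
      have : f ⟨e, he⟩ ∈ f.range := ⟨_, rfl⟩
      rw [h, mem_bot] at this
      exact (L.β_eq_one _).1 this
    refine hne (hP.eq_bot_of_both L.fst_le (le_normalizer_ncore _ _) ?_)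
    rw [le_antisymm hle hFE]
    exact le_normalizer_ncore _ _
  · have hM := alt_le_range_symm hP h6 L hL M
    have h1 := two_mul_card_ge (L.five_le h6) h
    rw [L.nat_card_ne] at h1
    have h2 := two_mul_card_ge (α := Fin d) (by simp; omega) hM
    rw [Nat.card_fin] at h2
    have h3 : Nat.card L.π.range ≤ d.factorial := by
      have := Nat.le_of_dvd Nat.card_pos (card_subgroup_dvd_card L.π.range)
      rwa [Nat.card_perm, Nat.card_fin] at this
    have h4 : Nat.card F = Nat.card (fst H K) * Nat.card f.range := by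
      rw [← index_ker, hker, ← Nat.card_congr (subgroupOfEquivOfLe hle).toEquiv, card_mul_index]
    have h5 := (M.card_eq.symm.trans hP.card_eq).trans L.card_eq
    change Nat.card F * _ = _ at h5
    have h6' : Nat.factorial 5 ≤ (d - 1).factorial := Nat.factorial_le (by omega)
    rw [h4] at h5
    have h7 : Nat.card f.range * Nat.card M.π.range = Nat.card L.π.range :=
      Nat.eq_of_mul_eq_mul_left (Nat.card_pos (α := fst H K)) (by rw [← mul_assoc, h5])
    have h8 : (d - 1).factorial * d.factorial ≤ 4 * d.factorial := by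
      calc (d - 1).factorial * d.factorial
          ≤ (2 * Nat.card f.range) * (2 * Nat.card M.π.range) := Nat.mul_le_mul h1 h2
        _ = 4 * Nat.card L.π.range := by rw [← h7]; ring
        _ ≤ 4 * d.factorial := Nat.mul_le_mul_left 4 h3
    have h9 : (d - 1).factorial ≤ 4 := Nat.le_of_mul_le_mul_right h8 (Nat.factorial_pos d)
    have h10 : (5 : ℕ).factorial = 120 := rfl
    omega

/-- The kernel of the first action acts almost alternatingly in the second. -/
theorem alt_le_map_fst (hP : Pair H K) (h6 : 6 ≤ d) (L : Loc H K d)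
    (hL : alternatingGroup (Fin d) ≤ L.π.range) (M : Loc K H d) (hne : fst H K ≠ ⊥) :
    alternatingGroup {y : Fin d // y ≠ M.x} ≤ ((fst H K).subgroupOf (K ⊓ H)).map M.β := by
  haveI : ((fst H K).subgroupOf (K ⊓ H)).Normal :=
    (normal_subgroupOf_iff_le_normalizer (fst_le_inf' H K)).2
      (inf_le_right.trans (le_normalizer_ncore _ _))
  have hn := le_normalizer_map (H := (fst H K).subgroupOf (K ⊓ H)) M.β
  rw [normalizer_eq_top, ← MonoidHom.range_eq_map] at hn
  rcases normal_dichotomy (M.five_le h6) (M.alt_le_range_β (alt_le_range_symm hP h6 L hL M))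
    (map_le_range _ _) hn with h | h
  · exfalso
    refine exists_mem_notMem_fst hP h6 L hL M hne fun e he => (M.β_eq_one ⟨e, fst_le_inf' H K he⟩).1 ?_
    rw [← mem_bot, ← h]
    exact mem_map_of_mem _ (mem_subgroupOf.2 he)
  · exact h

theorem fst_symm_ne_bot (hP : Pair H K) (h6 : 6 ≤ d) (L : Loc H K d)
    (hL : alternatingGroup (Fin d) ≤ L.π.range) (M : Loc K H d) (hne : fst H K ≠ ⊥) :
    fst K H ≠ ⊥ := by
  intro h0
  have h1 := two_mul_card_ge (M.five_le h6) (alt_le_map_fst hP h6 L hL M hne)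
  rw [M.nat_card_ne] at h1
  have h2 : Nat.card (((fst H K).subgroupOf (K ⊓ H)).map M.β) ≤ Nat.card (fst H K) := by
    rw [← Nat.card_congr (subgroupOfEquivOfLe (fst_le_inf' H K)).toEquiv]
    exact Nat.le_of_dvd Nat.card_pos (card_map_dvd ((fst H K).subgroupOf (K ⊓ H)) M.β)
  have h3 := two_mul_card_ge (α := Fin d) (by simp; omega) hL
  rw [Nat.card_fin] at h3
  have h4 : Nat.card M.π.range ≤ d.factorial := by
    have := Nat.le_of_dvd Nat.card_pos (card_subgroup_dvd_card M.π.range)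
    rwa [Nat.card_perm, Nat.card_fin] at this
  have h5 := (M.card_eq.symm.trans hP.card_eq).trans L.card_eq
  rw [h0, card_bot, one_mul] at h5
  have h6' : Nat.factorial 5 ≤ (d - 1).factorial := Nat.factorial_le (by omega)
  have h7 : (d - 1).factorial * d.factorial ≤ 4 * d.factorial := by
    calc (d - 1).factorial * d.factorial
        ≤ (2 * Nat.card (fst H K)) * (2 * Nat.card L.π.range) :=
          Nat.mul_le_mul (h1.trans (Nat.mul_le_mul_left 2 h2)) h3
      _ = 4 * Nat.card M.π.range := by rw [h5]; ring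
      _ ≤ 4 * d.factorial := Nat.mul_le_mul_left 4 h4
  have h8 : (d - 1).factorial ≤ 4 := Nat.le_of_mul_le_mul_right h7 (Nat.factorial_pos d)
  have h10 : (5 : ℕ).factorial = 120 := rfl
  omega

end CfsgLib.Char.UnfaithfulSub
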