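import Cfsg.Agent.Lib.Char.UnfaithfulSub.Claim

/-!
# Stabilizers with an unfaithful almost alternating subconstituent
-/

set_option autoImplicit false
set_option linter.unusedSectionVars false

open Subgroup CfsgLib.Coprime CfsgLib.Invol CfsgLib.Char.TW
open Equiv (Perm)

namespace CfsgLib.Char.UnfaithfulSub

/-- A group mapping injectively into a product of two symmetric groups, with image containing both
alternating groups. -/
theorem prod_cases {X α β : Type*} [Group X] [Fintype α] [DecidableEq α] [Nontrivial α]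
    [Fintype β] [DecidableEq β] [Nontrivial β]
    (p : X →* Perm α) (q : X →* Perm β) (hinj : ∀ h, p h = 1 → q h = 1 → h = 1)
    (hA : ∀ σ ∈ alternatingGroup α, ∃ h, p h = σ ∧ q h = 1)
    (hB : ∀ τ ∈ alternatingGroup β, ∃ h, p h = 1 ∧ q h = τ)
    (hno : p.range = alternatingGroup α → q.range = ⊤ → False) :
    (p.range = alternatingGroup α ∧ Nonempty (X ≃* alternatingGroup α × alternatingGroup β)) ∨
      (p.range = ⊤ ∧ (Nonempty (X ≃* Perm α × Perm β) ∨
        Nonempty (X ≃* Perm α × alternatingGroup β) ∨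
        Nonempty (X ≃* ((Equiv.Perm.sign.comp (MonoidHom.fst (Perm α) (Perm β))) *
          (Equiv.Perm.sign.comp (MonoidHom.snd (Perm α) (Perm β)))).ker))) := by
  have hAB : ∀ σ ∈ alternatingGroup α, ∀ τ ∈ alternatingGroup β, ∃ h, p h = σ ∧ q h = τ := by
    intro σ hσ τ hτ
    obtain ⟨a, ha1, ha2⟩ := hA σ hσ
    obtain ⟨b, hb1, hb2⟩ := hB τ hτ
    exact ⟨a * b, by rw [map_mul, ha1, hb1, mul_one], by rw [map_mul, ha2, hb2, one_mul]⟩
  have hpA : alternatingGroup α ≤ p.range := fun σ hσ => by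
    obtain ⟨h, h1, -⟩ := hA σ hσ
    exact ⟨h, h1⟩
  have hqB : alternatingGroup β ≤ q.range := fun τ hτ => by
    obtain ⟨h, -, h1⟩ := hB τ hτ
    exact ⟨h, h1⟩
  -- a parity shift
  have shift : ∀ (σ : Perm α) (τ : Perm β) (r : X), Equiv.Perm.sign (p r) = Equiv.Perm.sign σ →
      Equiv.Perm.sign (q r) = Equiv.Perm.sign τ → ∃ h, p h = σ ∧ q h = τ := by
    intro σ τ r h1 h2
    obtain ⟨a, ha1, ha2⟩ := hAB (σ * (p r)⁻¹)
      (by rw [Equiv.Perm.mem_alternatingGroup, map_mul, map_inv, h1, mul_inv_cancel])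
      (τ * (q r)⁻¹)
      (by rw [Equiv.Perm.mem_alternatingGroup, map_mul, map_inv, h2, mul_inv_cancel])
    exact ⟨a * r, by rw [map_mul, ha1, inv_mul_cancel_right], by
      rw [map_mul, ha2, inv_mul_cancel_right]⟩
  rcases eq_alt_or_top hpA with hp | hp <;> rcases eq_alt_or_top hqB with hq | hq
  · left
    refine ⟨hp, ⟨MulEquiv.ofBijective
      ((p.codRestrict _ fun h => hp ▸ MonoidHom.mem_range.2 ⟨h, rfl⟩).prod
        (q.codRestrict _ fun h => hq ▸ MonoidHom.mem_range.2 ⟨h, rfl⟩)) ⟨?_, ?_⟩⟩⟩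
    · refine (injective_iff_map_eq_one _).2 fun h hh => hinj h ?_ ?_
      · exact congrArg (fun z : alternatingGroup α × alternatingGroup β => (z.1 : Perm α)) hh
      · exact congrArg (fun z : alternatingGroup α × alternatingGroup β => (z.2 : Perm β)) hh
    · rintro ⟨σ, τ⟩
      obtain ⟨h, h1, h2⟩ := hAB σ σ.2 τ τ.2
      exact ⟨h, Prod.ext (Subtype.ext h1) (Subtype.ext h2)⟩
  · exact (hno hp hq).elim
  · right
    refine ⟨hp, Or.inr (Or.inl ⟨MulEquiv.ofBijective
      (p.prod (q.codRestrict _ fun h => hq ▸ MonoidHom.mem_range.2 ⟨h, rfl⟩)) ⟨?_, ?_⟩⟩)⟩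
    · refine (injective_iff_map_eq_one _).2 fun h hh => hinj h ?_ ?_
      · exact congrArg (fun z : Perm α × alternatingGroup β => z.1) hh
      · exact congrArg (fun z : Perm α × alternatingGroup β => (z.2 : Perm β)) hh
    · rintro ⟨σ, τ⟩
      obtain ⟨r, hr⟩ := MonoidHom.mem_range.1 (hp ▸ mem_top σ : σ ∈ p.range)
      have hqr : q r ∈ alternatingGroup β := hq ▸ ⟨r, rfl⟩
      obtain ⟨h, h1, h2⟩ := shift σ τ r (by rw [hr])
        ((Equiv.Perm.mem_alternatingGroup.1 hqr).trans (Equiv.Perm.mem_alternatingGroup.1 τ.2).symm)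
      exact ⟨h, Prod.ext h1 (Subtype.ext h2)⟩
  · right
    refine ⟨hp, ?_⟩
    by_cases hs : ∃ r, Equiv.Perm.sign (p r) ≠ Equiv.Perm.sign (q r)
    · left
      obtain ⟨r, hr⟩ := hs
      refine ⟨MulEquiv.ofBijective (p.prod q) ⟨?_, ?_⟩⟩
      · exact (injective_iff_map_eq_one _).2 fun h hh =>
          hinj h (congrArg Prod.fst hh) (congrArg Prod.snd hh)
      · rintro ⟨σ, τ⟩
        obtain ⟨u, hu⟩ := MonoidHom.mem_range.1 (hp ▸ mem_top σ : σ ∈ p.range)
        by_cases hτ : Equiv.Perm.sign (q u) = Equiv.Perm.sign τ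
        · obtain ⟨h, h1, h2⟩ := shift σ τ u (by rw [hu]) hτ
          exact ⟨h, Prod.ext h1 h2⟩
        obtain ⟨w, hw⟩ : ∃ w, Equiv.Perm.sign (p w) = 1 ∧ Equiv.Perm.sign (q w) = -1 := by
          obtain ⟨v, hv⟩ := MonoidHom.mem_range.1 (hq ▸ mem_top _ :
            (Equiv.Perm.sign_surjective β (-1)).choose ∈ q.range)
          have hv' : Equiv.Perm.sign (q v) = -1 := by
            rw [hv]; exact (Equiv.Perm.sign_surjective β (-1)).choose_spec
          rcases Int.units_eq_one_or (Equiv.Perm.sign (p v)) with h | h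
          · exact ⟨v, h, hv'⟩
          rcases Int.units_eq_one_or (Equiv.Perm.sign (p r)) with h' | h'
          · exact ⟨r, h', (Int.units_eq_one_or _).resolve_left fun h'' => hr (h'.trans h''.symm)⟩
          · refine ⟨v * r, by simp [h, h'], ?_⟩
            have : Equiv.Perm.sign (q r) = 1 :=
              (Int.units_eq_one_or _).resolve_right fun h'' => hr (h'.trans h''.symm)
            simp [hv', this]
        obtain ⟨h, h1, h2⟩ := shift σ τ (u * w) (by simp [hu, hw.1]) (by
          rcases Int.units_eq_one_or (Equiv.Perm.sign (q u)) with h | h <;>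
            rcases Int.units_eq_one_or (Equiv.Perm.sign τ) with h' | h' <;>
              simp_all)
        exact ⟨h, Prod.ext h1 h2⟩
    · right; right
      simp only [not_exists, not_not] at hs
      refine ⟨MulEquiv.ofBijective ((p.prod q).codRestrict _ fun h => ?_) ⟨?_, ?_⟩⟩
      · rw [MonoidHom.mem_ker]
        simp [hs]
      · exact (injective_iff_map_eq_one _).2 fun h hh =>
          hinj h (congrArg (fun z => z.val.1) hh) (congrArg (fun z => z.val.2) hh)
      · rintro ⟨⟨σ, τ⟩, hστ⟩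
        obtain ⟨r, hr⟩ := MonoidHom.mem_range.1 (hp ▸ mem_top σ : σ ∈ p.range)
        rw [MonoidHom.mem_ker] at hστ
        obtain ⟨h, h1, h2⟩ := shift σ τ r (by rw [hr]) (by
          rw [← hs r, hr]
          simp only [MonoidHom.mul_apply, MonoidHom.comp_apply, MonoidHom.coe_fst,
            MonoidHom.coe_snd] at hστ
          rcases Int.units_eq_one_or (Equiv.Perm.sign σ) with h | h <;>
            rcases Int.units_eq_one_or (Equiv.Perm.sign τ) with h' | h' <;> simp_all)
        exact ⟨h, Subtype.ext (Prod.ext h1 h2)⟩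

/-- `A_d × S_{d-1}` has no quotient `S_d`. -/
theorem no_surjective {d n : ℕ} (h5 : 5 ≤ d) (hn : n < d)
    (ψ : alternatingGroup (Fin d) × Perm (Fin n) →* Perm (Fin d)) : ¬ Function.Surjective ψ := by
  intro hψ
  haveI : Nontrivial (Fin d) := Fin.nontrivial_iff_two_le.2 (by omega)
  let a := ψ.comp (MonoidHom.inl (alternatingGroup (Fin d)) (Perm (Fin n)))
  let b := ψ.comp (MonoidHom.inr (alternatingGroup (Fin d)) (Perm (Fin n)))
  have hsplit : ∀ z, ψ z = a z.1 * b z.2 := fun z => by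
    rw [MonoidHom.comp_apply, MonoidHom.comp_apply, ← map_mul]
    congr 1 <;> simp
  have hcomm : ∀ x y, a x * b y = b y * a x := fun x y => by
    rw [MonoidHom.comp_apply, MonoidHom.comp_apply, ← map_mul, ← map_mul]
    congr 1 <;> simp
  have hn' : (⊤ : Subgroup (Perm (Fin d))) ≤ normalizer (a.range : Set (Perm (Fin d))) := by
    have key : ∀ z, ∀ x, ψ z * a x * (ψ z)⁻¹ = a (z.1 * x * z.1⁻¹) := fun z x => by
      rw [hsplit, map_mul, map_mul, map_inv, mul_inv_rev, mul_assoc (a z.1) (b z.2) (a x),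
        ← hcomm]
      group
    intro w _
    obtain ⟨z, rfl⟩ := hψ w
    refine mem_normalizer_iff.2 fun v => ⟨?_, ?_⟩
    · rintro ⟨x, rfl⟩
      exact ⟨_, (key z x).symm⟩
    · rintro ⟨x, hx⟩
      refine ⟨z.1⁻¹ * x * z.1, ?_⟩
      have h := key z (z.1⁻¹ * x * z.1)
      rw [show z.1 * (z.1⁻¹ * x * z.1) * z.1⁻¹ = x by group, hx] at h
      exact mul_left_cancel (mul_right_cancel h)
  rcases normal_dichotomy (α := Fin d) (by simpa using h5) le_top le_top hn' with h | h
  · have hb : Function.Surjective b := fun w => by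
      obtain ⟨z, rfl⟩ := hψ w
      refine ⟨z.2, ?_⟩
      have h1 : a z.1 = 1 := by rw [← mem_bot, ← h]; exact ⟨_, rfl⟩
      rw [hsplit, h1, one_mul]
    have h1 := Nat.card_le_card_of_surjective b hb
    rw [Nat.card_perm, Nat.card_perm, Nat.card_fin, Nat.card_fin] at h1
    have h2 : n.factorial * d ≤ d.factorial := by
      rw [← Nat.mul_factorial_pred (show d ≠ 0 by omega), mul_comm]
      exact Nat.mul_le_mul_left _ (Nat.factorial_le (by omega))
    have := Nat.factorial_pos n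
    nlinarith
  · have hb : ∀ y, b y = 1 := fun y => alt_centralizer (by simpa using h5) fun τ hτ => by
      obtain ⟨x, rfl⟩ := h hτ
      exact (hcomm x y).symm
    have ha : Function.Surjective a := fun w => by
      obtain ⟨z, rfl⟩ := hψ w
      exact ⟨z.1, by rw [hsplit, hb, mul_one]⟩
    have h1 := Nat.card_le_card_of_surjective a ha
    rw [← two_mul_nat_card_alternatingGroup (α := Fin d)] at h1
    have := Nat.card_pos (α := alternatingGroup (Fin d))
    omega

variable {G : Type*} [Group G] [Finite G] {H K : Subgroup G} {d : ℕ}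

/-- The structure of a stabilizer with an unfaithful almost alternating subconstituent. -/
theorem structure_of_inf_eq_bot (hP : Pair H K) (h6 : 6 ≤ d) (L : Loc H K d)
    (hL : alternatingGroup (Fin d) ≤ L.π.range) (M : Loc K H d) (hne : fst H K ≠ ⊥)
    (hD : fst H K ⊓ fst K H = ⊥) :
    (L.π.range = alternatingGroup (Fin d) ∧
        Nonempty (H ≃* alternatingGroup (Fin d) × alternatingGroup (Fin (d - 1)))) ∨
      (L.π.range = ⊤ ∧ (Nonempty (H ≃* Perm (Fin d) × Perm (Fin (d - 1))) ∨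
        Nonempty (H ≃* Perm (Fin d) × alternatingGroup (Fin (d - 1))) ∨
        Nonempty (H ≃* ((Equiv.Perm.sign.comp (MonoidHom.fst (Perm (Fin d)) (Perm (Fin (d - 1))))) *
          (Equiv.Perm.sign.comp
            (MonoidHom.snd (Perm (Fin d)) (Perm (Fin (d - 1)))))).ker))) := by
  set C : Subgroup G := H ⊓ centralizer (fst H K : Set G) with hC
  have hCH : C ≤ H := inf_le_left
  have hCn : H ≤ normalizer (C : Set G) := inf_le_normalizer le_normalizer
    ((le_normalizer_ncore H (H ⊓ K)).trans (normalizer_le_normalizer_centralizer _))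
  have hFC : fst K H ≤ C := le_inf ((fst_le_inf' K H).trans inf_le_left) fun f hf =>
    mem_centralizer_iff.2 fun e he => commute_of_mutual
      ((fst_le_inf' H K).trans (inf_le_left.trans (le_normalizer_ncore _ _)))
      ((fst_le_inf' K H).trans (inf_le_left.trans (le_normalizer_ncore _ _))) hD he hf
  have hCA : alternatingGroup (Fin d) ≤ (C.subgroupOf H).map L.π := by
    haveI : (C.subgroupOf H).Normal := (normal_subgroupOf_iff_le_normalizer hCH).2 hCn
    have hn := le_normalizer_map (H := C.subgroupOf H) L.π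
    rw [normalizer_eq_top, ← MonoidHom.range_eq_map] at hn
    rcases normal_dichotomy (α := Fin d) (by simp; omega) hL (map_le_range _ _) hn with h | h
    · exfalso
      refine fst_symm_ne_bot hP h6 L hL M hne (le_bot_iff.1 ?_)
      rw [← hD]
      refine le_inf (fun f hf => (L.mem_fst ⟨f, hCH (hFC hf)⟩).2 ?_) le_rfl
      rw [← mem_bot, ← h]
      exact mem_map_of_mem _ (mem_subgroupOf.2 (hFC hf))
    · exact h
  let e : {y : Fin d // y ≠ M.x} ≃ Fin (d - 1) := Finite.equivFinOfCardEq M.nat_card_ne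
  let ι : Perm {y : Fin d // y ≠ M.x} →* Perm (Fin (d - 1)) := e.permCongrHom.toMonoidHom
  have hι : Function.Injective ι := e.permCongrHom.injective
  have sgn : ∀ σ, Equiv.Perm.sign (ι σ) = Equiv.Perm.sign σ := fun σ =>
    Equiv.Perm.sign_permCongr e σ
  let β : ↥(K ⊓ H) →* Perm (Fin (d - 1)) := ι.comp M.β
  have hEA : ∀ τ ∈ alternatingGroup (Fin (d - 1)), ∃ b : ↥(K ⊓ H), (b : G) ∈ fst H K ∧ β b = τ := by
    intro τ hτ
    obtain ⟨σ, rfl⟩ : ∃ σ, ι σ = τ := e.permCongrHom.surjective τ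
    obtain ⟨b, hb, rfl⟩ := alt_le_map_fst hP h6 L hL M hne
      (show σ ∈ alternatingGroup _ by
        rw [Equiv.Perm.mem_alternatingGroup, ← sgn]; exact Equiv.Perm.mem_alternatingGroup.1 hτ)
    exact ⟨b, mem_subgroupOf.1 hb, rfl⟩
  have h5' : 5 ≤ Nat.card (Fin (d - 1)) := by simp; omega
  have hβC : ∀ b : ↥(K ⊓ H), (b : G) ∈ C → β b = 1 := fun b hb =>
    alt_centralizer h5' fun τ hτ => by
      obtain ⟨u, hu, rfl⟩ := hEA τ hτ
      rw [← map_mul, ← map_mul]
      exact congrArg β (Subtype.ext ((mem_centralizer_iff.1 hb.2) u hu).symm)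
  have hdec : ∀ h : H, ∃ b : ↥(K ⊓ H), (h : G) * (b : G)⁻¹ ∈ C := by
    intro h
    obtain ⟨σ, hσ, hσx⟩ : ∃ σ ∈ alternatingGroup (Fin d), σ L.x = L.π h L.x := by
      obtain ⟨z, hz⟩ : ∃ z : Fin d, z ≠ L.x :=
        haveI : Nontrivial (Fin d) := Fin.nontrivial_iff_two_le.2 (by omega)
        exists_ne _
      obtain ⟨w, hw⟩ : ∃ w : Fin d, w ≠ L.π h L.x :=
        haveI : Nontrivial (Fin d) := Fin.nontrivial_iff_two_le.2 (by omega)
        exists_ne _
      obtain ⟨σ, hσ, h1, -⟩ := exists_alt_pair (by simp; omega) (Ne.symm hz) (Ne.symm hw)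
      exact ⟨σ, hσ, h1⟩
    obtain ⟨c, hc, rfl⟩ := hCA hσ
    have hb : ((c⁻¹ * h : ↥H) : G) ∈ K := (L.stab _).1 (by
      rw [map_mul, Equiv.Perm.mul_apply, ← hσx, map_inv, Equiv.Perm.inv_eq_iff_eq])
    refine ⟨⟨_, Subgroup.mem_inf.2 ⟨hb, (c⁻¹ * h).2⟩⟩, ?_⟩
    have h1 := conj_mem_of_le_normalizer hCn h.2
      (conj_mem_of_le_normalizer hCn (c⁻¹ * h)⁻¹.2 (mem_subgroupOf.1 hc))
    simp only [Subgroup.coe_mul, Subgroup.coe_inv, mul_inv_rev, inv_inv] at h1 ⊢
    rw [show (h : G) * ((h : G)⁻¹ * c) = c by group]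
    exact mem_subgroupOf.1 hc
  choose b hb using hdec
  have key : ∀ (h : H) (b' : ↥(K ⊓ H)), (h : G) * (b' : G)⁻¹ ∈ C → β (b h) = β b' := by
    intro h b' hb'
    rw [← mul_inv_eq_one, ← map_inv, ← map_mul]
    refine hβC _ ?_
    have := mul_mem (inv_mem (hb h)) hb'
    simpa [mul_assoc] using this
  let θ : ↥H →* Perm (Fin (d - 1)) := MonoidHom.mk' (fun h => β (b h)) fun h₁ h₂ => by
    rw [← map_mul]
    refine key _ _ ?_
    have h1 := conj_mem_of_le_normalizer hCn ((b h₁).2.2) (hb h₂)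
    have := mul_mem (hb h₁) h1
    simpa [mul_assoc] using this
  have hθ : ∀ (h : H) (b' : ↥(K ⊓ H)), (h : G) * (b' : G)⁻¹ ∈ C → θ h = β b' := key
  have hθK : ∀ b' : ↥(K ⊓ H), θ ⟨b', b'.2.2⟩ = β b' := fun b' => hθ _ _ (by simp [C.one_mem])
  haveI : Nontrivial (Fin d) := Fin.nontrivial_iff_two_le.2 (by omega)
  haveI : Nontrivial (Fin (d - 1)) := Fin.nontrivial_iff_two_le.2 (by omega)
  refine prod_cases L.π θ (fun h h1 h2 => ?_) (fun σ hσ => ?_) (fun τ hτ => ?_) (fun hp hq => ?_)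
  · have hE : (h : G) ∈ fst H K := (L.mem_fst h).2 h1
    have h3 : β ⟨h, fst_le_inf' H K hE⟩ = 1 := (hθK _).symm.trans h2
    have h4 : (h : G) ∈ fst H K ⊓ fst K H :=
      ⟨hE, (M.β_eq_one _).1 (hι (h3.trans (map_one ι).symm))⟩
    rw [hD, mem_bot] at h4
    exact Subtype.ext h4
  · obtain ⟨c, hc, rfl⟩ := hCA hσ
    refine ⟨c, rfl, ?_⟩
    rw [hθ c 1 (by simpa using mem_subgroupOf.1 hc), map_one]
  · obtain ⟨u, hu, rfl⟩ := hEA τ hτ
    exact ⟨⟨u, u.2.2⟩, (L.mem_fst ⟨u, u.2.2⟩).1 hu, hθK u⟩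
  · -- `H ≅ A_d × S_{d-1}` but `K` maps onto `S_d`
    have hinj : ∀ h : H, L.π h = 1 → θ h = 1 → h = 1 := fun h h1 h2 => by
      have hE : (h : G) ∈ fst H K := (L.mem_fst h).2 h1
      have h3 : β ⟨h, fst_le_inf' H K hE⟩ = 1 := (hθK _).symm.trans h2
      have h4 : (h : G) ∈ fst H K ⊓ fst K H :=
        ⟨hE, (M.β_eq_one _).1 (hι (h3.trans (map_one ι).symm))⟩
      rw [hD, mem_bot] at h4
      exact Subtype.ext h4
    let Φ : ↥H →* alternatingGroup (Fin d) × Perm (Fin (d - 1)) :=
      (L.π.codRestrict _ fun h => hp ▸ MonoidHom.mem_range.2 ⟨h, rfl⟩).prod θ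
    have hΦ : Function.Bijective Φ := by
      refine ⟨(injective_iff_map_eq_one _).2 fun h hh => hinj h
        (congrArg (fun z : alternatingGroup (Fin d) × Perm (Fin (d - 1)) => (z.1 : Perm (Fin d))) hh)
        (congrArg Prod.snd hh), ?_⟩
      rintro ⟨σ, τ⟩
      obtain ⟨u, hu⟩ := MonoidHom.mem_range.1 (hq ▸ mem_top τ : τ ∈ θ.range)
      obtain ⟨c, hc, hc'⟩ := hCA ((mul_mem σ.2 (inv_mem (hp ▸ ⟨u, rfl⟩ : L.π u ∈ _))))
      refine ⟨c * u, Prod.ext (Subtype.ext ?_) ?_⟩
      · show L.π (c * u) = σ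
        rw [map_mul, hc', inv_mul_cancel_right]
      · show θ (c * u) = τ
        rw [map_mul, hθ c 1 (by simpa using mem_subgroupOf.1 hc), map_one, one_mul, hu]
    have hKtop : M.π.range = ⊤ := by
      refine (eq_alt_or_top (alt_le_range_symm hP h6 L hL M)).resolve_left fun hM => ?_
      obtain ⟨t, ht⟩ := Equiv.Perm.sign_surjective (Fin (d - 1)) (-1)
      obtain ⟨u, hu⟩ := MonoidHom.mem_range.1 (hq ▸ mem_top t : t ∈ θ.range)
      have h1 : Equiv.Perm.sign (M.β (b u)) = -1 := by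
        rw [← sgn]; exact (congrArg Equiv.Perm.sign hu).trans ht
      have h2 : Equiv.Perm.sign (M.π ⟨b u, (b u).2.1⟩) = 1 :=
        Equiv.Perm.mem_alternatingGroup.1 (hM ▸ ⟨_, rfl⟩)
      have h3 : Equiv.Perm.sign (M.β (b u)) = Equiv.Perm.sign (M.π ⟨b u, (b u).2.1⟩) :=
        Equiv.Perm.sign_subtypePerm _ (M.ne_iff (b u)) fun y hy e => hy (by
          subst e
          exact M.fixed _)
      rw [h1, h2] at h3
      exact absurd h3 (by decide)
    obtain ⟨g, hg⟩ := hP.conj
    refine no_surjective (by omega) (by omega) (M.π.comp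
      ((MulEquiv.ofBijective Φ hΦ).symm.trans
        (((MulAut.conj g).subgroupMap H).trans
          (MulEquiv.subgroupCongr hg.symm))).toMonoidHom) ?_
    intro w
    obtain ⟨k, rfl⟩ := MonoidHom.mem_range.1 (hKtop ▸ mem_top w : w ∈ M.π.range)
    obtain ⟨z, rfl⟩ := MulEquiv.surjective ((MulEquiv.ofBijective Φ hΦ).symm.trans
      (((MulAut.conj g).subgroupMap H).trans (MulEquiv.subgroupCongr hg.symm))) k
    exact ⟨z, rfl⟩

/-- The structure of a stabilizer with an unfaithful almost alternating subconstituent. -/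
theorem structure_of_loc (hP : Pair H K) (h6 : 6 ≤ d) (L : Loc H K d)
    (hL : alternatingGroup (Fin d) ≤ L.π.range) (hne : fst H K ≠ ⊥) (hd : (H ⊓ K).relIndex H = d) :
    (L.π.range = alternatingGroup (Fin d) ∧
        Nonempty (H ≃* alternatingGroup (Fin d) × alternatingGroup (Fin (d - 1)))) ∨
      (L.π.range = ⊤ ∧ (Nonempty (H ≃* Perm (Fin d) × Perm (Fin (d - 1))) ∨
        Nonempty (H ≃* Perm (Fin d) × alternatingGroup (Fin (d - 1))) ∨
        Nonempty (H ≃* ((Equiv.Perm.sign.comp (MonoidHom.fst (Perm (Fin d)) (Perm (Fin (d - 1))))) *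
          (Equiv.Perm.sign.comp
            (MonoidHom.snd (Perm (Fin d)) (Perm (Fin (d - 1)))))).ker))) := by
  obtain ⟨M⟩ := Loc.exists_of_relIndex (H := K) (K := H) (d := d)
    (by rw [inf_comm, hP.relIndex_eq, hd])
  refine structure_of_inf_eq_bot hP h6 L hL M hne ?_
  rcases snd_eq_bot hP L hL h6 with h | h
  · exact inf_fst_eq_bot hP h6 L hL M hne h
  · rw [inf_comm]
    exact inf_fst_eq_bot hP.symm h6 M (alt_le_range_symm hP h6 L hL M) L
      (fst_symm_ne_bot hP h6 L hL M hne) h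

open MulAction in
theorem stabilizer_structure {Ω : Type*} [MulAction G Ω] [FaithfulSMul G Ω] [Finite Ω]
    (hprim : IsPreprimitive G Ω) (a b : Ω) (d : ℕ)
    (hd : Nat.card (orbit (stabilizer G a) b) = d) (h6 : 6 ≤ d)
    (halt : (toPermHom (stabilizer G a) (orbit (stabilizer G a) b)).range.index ≤ 2)
    (hunf : ¬ Function.Injective (toPermHom (stabilizer G a) (orbit (stabilizer G a) b))) :
    ((toPermHom (stabilizer G a) (orbit (stabilizer G a) b)).range.index = 2 ∧
        Nonempty (stabilizer G a ≃* alternatingGroup (Fin d) × alternatingGroup (Fin (d - 1)))) ∨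
      ((toPermHom (stabilizer G a) (orbit (stabilizer G a) b)).range = ⊤ ∧
        (Nonempty (stabilizer G a ≃* Perm (Fin d) × Perm (Fin (d - 1))) ∨
        Nonempty (stabilizer G a ≃* Perm (Fin d) × alternatingGroup (Fin (d - 1))) ∨
        Nonempty (stabilizer G a ≃*
          ((Equiv.Perm.sign.comp (MonoidHom.fst (Perm (Fin d)) (Perm (Fin (d - 1))))) *
          (Equiv.Perm.sign.comp
            (MonoidHom.snd (Perm (Fin d)) (Perm (Fin (d - 1)))))).ker))) := by
  have hP : Pair (stabilizer G a) (stabilizer G b) := pair_of_isPreprimitive hprim a b (by omega)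
  set H := stabilizer G a
  set ρ := toPermHom H (orbit H b)
  let e : orbit H b ≃ Fin d := Finite.equivFinOfCardEq hd
  let x : orbit H b := ⟨b, mem_orbit_self b⟩
  let ι := e.permCongrHom
  let L : Loc H (stabilizer G b) d :=
    { π := ι.toMonoidHom.comp ρ
      x := e x
      stab := fun h => by
        show e (h • e.symm (e x)) = e x ↔ _
        rw [e.symm_apply_apply, EmbeddingLike.apply_eq_iff_eq]
        exact ⟨fun h' => congrArg Subtype.val h', fun h' => Subtype.ext h'⟩
      trans := fun y => by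
        obtain ⟨z, rfl⟩ := e.surjective y
        obtain ⟨z, h, rfl⟩ := z
        refine ⟨h, ?_⟩
        show e (h • e.symm (e x)) = _
        rw [e.symm_apply_apply]
        rfl }
  have hR : L.π.range = ρ.range.map ι.toMonoidHom := MonoidHom.range_comp _ _
  have hidx : L.π.range.index = ρ.range.index := by
    rw [hR]
    exact index_map_of_bijective ι.bijective ρ.range
  have hL : alternatingGroup (Fin d) ≤ L.π.range :=
    Equiv.Perm.alternatingGroup_le_of_index_le_two (hidx ▸ halt)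
  have hne : fst H (stabilizer G b) ≠ ⊥ := by
    intro h0
    refine hunf ((injective_iff_map_eq_one ρ).2 fun h hh => Subtype.ext ?_)
    rw [Subgroup.coe_one, ← mem_bot, ← h0]
    exact (L.mem_fst h).2 (by simp [L, hh])
  haveI : Nontrivial (Fin d) := Fin.nontrivial_iff_two_le.2 (by omega)
  rcases structure_of_loc hP h6 L hL hne ((relIndex_stabilizer a b).trans hd) with ⟨h1, h2⟩ | ⟨h1, h2⟩
  · exact Or.inl ⟨by rw [← hidx, h1, alternatingGroup.index_eq_two], h2⟩
  · exact Or.inr ⟨index_eq_one.1 (by rw [← hidx, h1, index_top]), h2⟩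

end CfsgLib.Char.UnfaithfulSub
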